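import Mathlib.RingTheory.MvPolynomial.Basic
import Mathlib.RingTheory.Ideal.Quotient.Operations

/-!
# The chart ring of the family `h l = t l * u`
-/

set_option autoImplicit false
universe u
open MvPolynomial

namespace Groth.Agent.An.H892.FamRing

/-- the chart ring of the family `h l = t l * u` -/
abbrev FamRing {B : Type u} [CommRing B] {n : ℕ} (h : Fin n → B) (u : B) : Type u :=
  MvPolynomial (Fin n) B ⧸ Ideal.span (Set.range fun l => (C (h l) - X l * C u : MvPolynomial (Fin n) B))

/-- the structure map from the polynomial ring in the parameters -/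
noncomputable def famHom (k : Type u) [Field k] {B : Type u} [CommRing B] [Algebra k B] {n : ℕ} (h : Fin n → B) (u : B) :
    MvPolynomial (Fin n) k →+* FamRing h u :=
  (Ideal.Quotient.mk _).comp (MvPolynomial.map (algebraMap k B))

variable {B : Type u} [CommRing B] {n : ℕ} (h : Fin n → B) (u : B)

theorem mk_rel (l : Fin n) : (Ideal.Quotient.mk _ (C (h l)) : FamRing h u) =
    Ideal.Quotient.mk _ (X l) * Ideal.Quotient.mk _ (C u) := by
  rw [← map_mul, Ideal.Quotient.eq]
  exact Ideal.subset_span ⟨l, rfl⟩

theorem famHom_X (k : Type u) [Field k] [Algebra k B] (l : Fin n) :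
    famHom k h u (X l) = Ideal.Quotient.mk _ (X l) := by simp [famHom]

theorem famHom_C (k : Type u) [Field k] [Algebra k B] (a : k) :
    famHom k h u (C a) = Ideal.Quotient.mk _ (C (algebraMap k B a)) := by simp [famHom]

end Groth.Agent.An.H892.FamRing
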