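import Groth.Agent.An.H892.Conn
import Groth.Prelude.Def_AnFib
import Groth.Agent.Dix.ProjProper

/-!
# An abstract criterion for elementary fibrations near a point of the base
-/

set_option autoImplicit false
universe u

open CategoryTheory CategoryTheory.Limits AlgebraicGeometry TopologicalSpace

namespace Groth.Agent.An.H892.Abs

/-- smoothness of relative dimension `n` can be checked on open immersions covering the source -/
theorem smoothOfRelativeDimension_of_cover {X S : Scheme.{u}} (f : X ⟶ S) (n : ℕ)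
    (h : ∀ x : X, ∃ (U : Scheme.{u}) (o : U ⟶ X), IsOpenImmersion o ∧ x ∈ Set.range o ∧
      SmoothOfRelativeDimension n (o ≫ f)) : SmoothOfRelativeDimension n f := by
  choose U o ho hx hs using h
  rw [IsZariskiLocalAtSource.iff_of_iSup_eq_top (P := @SmoothOfRelativeDimension n) (fun x => (o x).opensRange)]
  · intro x
    have h1 : (o x).opensRange.ι ≫ f = (o x).isoOpensRange.inv ≫ o x ≫ f := by
      rw [← Category.assoc, Scheme.Hom.isoOpensRange_inv_comp]
    rw [h1]
    exact (MorphismProperty.cancel_left_of_respectsIso (P := @SmoothOfRelativeDimension n) _ _).2 (hs x)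
  · rw [eq_top_iff]
    intro x _
    exact Opens.mem_iSup.2 ⟨x, hx x⟩

/-- The locus of the base over which a proper morphism is smooth of relative dimension one is a neighbourhood of any
point over which it is. -/
theorem exists_good_open {P S : Scheme.{u}} (fb : P ⟶ S) [IsProper fb] (s₀ : S)
    (hsm : ∀ p : P, fb p = s₀ → ∃ W : P.Opens, p ∈ W ∧ SmoothOfRelativeDimension 1 (W.ι ≫ fb)) :
    ∃ V₁ : S.Opens, s₀ ∈ V₁ ∧ ∀ V : S.Opens, V ≤ V₁ → SmoothOfRelativeDimension 1 (fb ∣_ V) := by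
  let G : Set P := {p | ∃ W : P.Opens, p ∈ W ∧ SmoothOfRelativeDimension 1 (W.ι ≫ fb)}
  have hG : IsOpen G := by
    rw [isOpen_iff_forall_mem_open]
    rintro p ⟨W, hpW, hW⟩
    exact ⟨W, fun q hq => ⟨W, hq, hW⟩, W.2, hpW⟩
  refine ⟨⟨(fb '' Gᶜ)ᶜ, (fb.isClosedMap _ hG.isClosed_compl).isOpen_compl⟩, ?_, ?_⟩
  · rintro ⟨p, hp, hps⟩
    exact hp (hsm p hps)
  · intro V hV
    apply smoothOfRelativeDimension_of_cover
    intro x
    have hx : (fb ⁻¹ᵁ V).ι x ∈ G := by
      by_contra hne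
      have h1 : fb ((fb ⁻¹ᵁ V).ι x) ∈ V := x.2
      exact hV h1 ⟨_, hne, rfl⟩
    obtain ⟨W, hxW, hW⟩ := hx
    refine ⟨_, W.ι ∣_ (fb ⁻¹ᵁ V), inferInstance, ?_, ?_⟩
    · refine ⟨⟨⟨_, hxW⟩, x.2⟩, ?_⟩
      apply (fb ⁻¹ᵁ V).ι.isOpenEmbedding.injective
      rw [← Scheme.Hom.comp_apply, morphismRestrict_ι]
      rfl
    · rw [← morphismRestrict_comp]
      exact IsZariskiLocalAtTarget.restrict (P := @SmoothOfRelativeDimension 1) hW V

/-- base change of strongly projective morphisms -/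
theorem isStronglyProjective_of_isPullback {X S X' S' : Scheme.{u}} {f : X ⟶ S} {f' : X' ⟶ S'} {g' : X' ⟶ X}
    {g : S' ⟶ S} (h : IsPullback g' f' f g) (hf : An.IsStronglyProjective f) : An.IsStronglyProjective f' := by
  obtain ⟨n, c, hc, rfl⟩ := hf
  have h1 := Dix.ProjProper.isPullback_mapBase n g
  obtain ⟨c', hc', hp⟩ : ∃ c' : X' ⟶ CohB1.ProjSpaceOver n S', c' ≫ CohB1.ProjSpaceOver.toBase n S' = f' ∧
      IsPullback g' c' c (Dix.ProjProper.mapBase n g) := by
    refine ⟨h1.lift (g' ≫ c) f' (by rw [Category.assoc, h.w]), h1.lift_snd _ _ _, ?_⟩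
    refine IsPullback.of_bot (h₃₁ := g) (v₂₁ := CohB1.ProjSpaceOver.toBase n S')
      (v₂₂ := CohB1.ProjSpaceOver.toBase n S) ?_ (h1.lift_fst _ _ _).symm h1
    rw [h1.lift_snd]
    exact h
  exact ⟨n, c', MorphismProperty.of_isPullback (P := @IsClosedImmersion) hp hc, hc'⟩

end Groth.Agent.An.H892.Abs
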