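import Groth.Agent.An.H892.Abs
import Mathlib.AlgebraicGeometry.Morphisms.UniversallyOpen

/-!
# An abstract criterion for elementary fibrations near a point of the base: main theorem
-/

set_option autoImplicit false
universe u

open CategoryTheory CategoryTheory.Limits AlgebraicGeometry TopologicalSpace

namespace Groth.Agent.An.H892.AbsMain

open Groth.Agent.An.H892.Abs

/-- the fibre of a finite morphism is a finite set -/
theorem finite_preimage {Y S : Scheme.{u}} (g : Y ⟶ S) [IsFinite g] (s : S) : (g ⁻¹' {s}).Finite :=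
  Scheme.Hom.finite_preimage_singleton g s

/-- In the fibres of a morphism smooth of relative dimension one, the complement of a closed set finite over the base
is dense. -/
theorem dense_fibre {P S Y : Scheme.{u}} (fb : P ⟶ S) [SmoothOfRelativeDimension 1 fb] (i : Y ⟶ P)
    [IsFinite (i ≫ fb)] (U : Set P) (hU : Uᶜ = Set.range i) (s : S) :
    fb ⁻¹' {s} ⊆ closure (U ∩ fb ⁻¹' {s}) := by
  have h1 : SmoothOfRelativeDimension 1 (fb.fiberToSpecResidueField s) :=
    (smoothOfRelativeDimension_isStableUnderBaseChange (n := 1)).of_isPullback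
      (IsPullback.of_hasPullback fb (S.fromSpecResidueField s)) ‹SmoothOfRelativeDimension 1 fb›
  have hemb := (fb.fiberι s).isEmbedding
  have hfin : ((fb.fiberι s) ⁻¹' (Set.range i)).Finite := by
    have h2 : ((i ≫ fb) ⁻¹' {s}).Finite := finite_preimage _ s
    have h3 : (fb.fiberι s) ⁻¹' (Set.range i) ⊆ (fb.fiberι s) ⁻¹' (i '' ((i ≫ fb) ⁻¹' {s})) := by
      rintro q ⟨y, hy⟩
      refine ⟨y, ?_, hy⟩
      have h4 : fb.fiberι s q ∈ Set.range (fb.fiberι s) := ⟨q, rfl⟩
      rw [fb.range_fiberι] at h4
      rw [Set.mem_preimage, Scheme.Hom.comp_apply, hy]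
      exact h4
    exact ((h2.image _).preimage hemb.injective.injOn).subset h3
  have hd := @CurveFib.dense_compl_of_finite (S.residueField s) _ _ (fb.fiberToSpecResidueField s) h1 _ hfin
  intro p hp
  have hp' : p ∈ Set.range (fb.fiberι s) := by rw [fb.range_fiberι]; exact hp
  obtain ⟨q, rfl⟩ := hp'
  have h5 : q ∈ closure (((fb.fiberι s) ⁻¹' (Set.range i))ᶜ) := hd q
  have h6 := image_closure_subset_closure_image (fb.fiberι s).continuous ⟨q, h5, rfl⟩
  refine closure_mono ?_ h6
  rintro _ ⟨q', hq', rfl⟩
  constructor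
  · have h7 : fb.fiberι s q' ∉ Uᶜ := by rw [hU]; exact hq'
    exact not_not.1 h7
  · rw [← fb.range_fiberι]
    exact ⟨q', rfl⟩

/-- A finite morphism smooth of relative dimension one has empty source. -/
theorem isEmpty_of_isFinite {P S : Scheme.{u}} (fb : P ⟶ S) [SmoothOfRelativeDimension 1 fb] [IsFinite fb] :
    IsEmpty P := by
  by_contra h
  rw [not_isEmpty_iff] at h
  obtain ⟨p⟩ := h
  have h1 : IsFinite (𝟙 P ≫ fb) := by rw [Category.id_comp]; infer_instance
  have h2 : p ∈ closure ((∅ : Set P) ∩ fb ⁻¹' {fb p}) := dense_fibre fb (𝟙 P) ∅ (by simp) (fb p) rfl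
  simp at h2

theorem surjective_of_finite_etale {Y S : Scheme.{u}} (g : Y ⟶ S) [IsFinite g] [Etale g] [Nonempty Y]
    [PreconnectedSpace S] : Function.Surjective g := by
  have h1 : IsClopen (Set.range g) := ⟨g.isClosedMap.isClosed_range, g.isOpenMap.isOpen_range⟩
  rw [← Set.range_eq_univ]
  exact h1.eq_univ (Set.range_nonempty g)

/-- connectedness of the generic fibre -/
theorem isPreconnected_fibre_genericPoint {P V : Scheme.{u}} (f : P ⟶ V) [IrreducibleSpace P] [IrreducibleSpace V]
    (hf : Function.Surjective f) : _root_.IsPreconnected (f ⁻¹' {genericPoint V}) := by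
  have h1 : f (genericPoint P) = genericPoint V := by
    have h2 : IsGenericPoint (f (genericPoint P)) (closure (f '' Set.univ)) :=
      (genericPoint_spec P).image f.continuous
    rw [Set.image_univ, Set.range_eq_univ.2 hf, closure_univ] at h2
    exact h2.eq (genericPoint_spec V)
  refine (isPreconnected_singleton (x := genericPoint P)).subset_closure ?_ ?_
  · rw [Set.singleton_subset_iff]
    exact h1
  · rw [(genericPoint_spec P).def]
    exact Set.subset_univ _

end Groth.Agent.An.H892.AbsMain
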