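import Groth.Agent.An.H892.AbsMain

/-!
# An abstract criterion for elementary fibrations near a point of the base: the theorem
-/

set_option autoImplicit false
universe u

open CategoryTheory CategoryTheory.Limits AlgebraicGeometry TopologicalSpace

namespace Groth.Agent.An.H892.AbsThm

open Groth.Agent.An.H892.Abs Groth.Agent.An.H892.AbsMain

theorem range_morphismRestrict {X Y : Scheme.{u}} (f : X ⟶ Y) (U : Y.Opens) :
    Set.range (f ∣_ U) = {y : U | (y : Y) ∈ Set.range f} := by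
  ext y
  constructor
  · rintro ⟨x, rfl⟩
    exact ⟨x.1, (morphismRestrict_base_coe f U x).symm⟩
  · rintro ⟨x, hx⟩
    refine ⟨⟨x, ?_⟩, ?_⟩
    · change f x ∈ U
      rw [hx]; exact y.2
    · apply Subtype.ext
      exact (morphismRestrict_base_coe f U _).trans hx

/-- Let `P → S` be a strongly projective proper morphism, `X ⊆ P` open affine with complement `Y` finite étale over `S`
affine irreducible; if `P → S` is smooth of relative dimension one at all points over `s₀` in the image of `X`, and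
has a section when `Y` is nonempty, then `X → S` is an elementary fibration over all nonempty opens contained in a
neighbourhood of `s₀`. -/
theorem main {X P S Y : Scheme.{u}} [IrreducibleSpace X] [IsAffine X] [IrreducibleSpace S] [IsAffine S]
    (j : X ⟶ P) [IsOpenImmersion j] (fb : P ⟶ S) [IsProper fb] (hproj : An.IsStronglyProjective fb)
    (i : Y ⟶ P) [IsClosedImmersion i] [IsFinite (i ≫ fb)] [Etale (i ≫ fb)]
    (hr : Set.range j = (Set.range i)ᶜ)
    (hsec : Nonempty Y → ∃ σ : S ⟶ P, σ ≫ fb = 𝟙 S)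
    (s₀ : S) (hs₀ : ∃ x : X, fb (j x) = s₀)
    (hsm : ∀ p : P, fb p = s₀ → ∃ W : P.Opens, p ∈ W ∧ SmoothOfRelativeDimension 1 (W.ι ≫ fb)) :
    ∃ V₁ : S.Opens, s₀ ∈ V₁ ∧ ∀ V : S.Opens, V ≤ V₁ → (V : Set S).Nonempty →
      An.IsElementaryFibration ((j ≫ fb) ∣_ V) := by
  obtain ⟨V₁, hV₁, hsmV⟩ := exists_good_open fb s₀ hsm
  obtain ⟨x₀, hx₀⟩ := hs₀
  have hY : Nonempty Y := by
    by_contra hne
    rw [not_nonempty_iff] at hne
    have h1 : Surjective j := by
      refine ⟨?_⟩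
      rw [← Set.range_eq_univ, hr, Set.range_eq_empty, Set.compl_empty]
    have h2 : IsIso j := (isIso_iff_isOpenImmersion_and_surjective j).mpr ⟨inferInstance, inferInstance⟩
    have h3 : IsAffine P := .of_isIso (inv j)
    have h4 : IsFinite fb := IsFinite.iff_isProper_and_isAffineHom.mpr ⟨inferInstance, inferInstance⟩
    have h5 := hsmV V₁ le_rfl
    have h6 := isEmpty_of_isFinite (fb ∣_ V₁)
    refine h6.false ⟨j x₀, ?_⟩
    change fb (j x₀) ∈ V₁
    rw [hx₀]; exact hV₁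
  obtain ⟨σ, hσ⟩ := hsec hY
  have hsurj : Function.Surjective (i ≫ fb) := surjective_of_finite_etale (i ≫ fb)
  refine ⟨V₁, hV₁, fun V hV hVne => ?_⟩
  have hrd : SmoothOfRelativeDimension 1 (fb ∣_ V) := hsmV V hV
  have hsmooth : Smooth (fb ∣_ V) := SmoothOfRelativeDimension.smooth 1 _
  have hVne' : Nonempty V := hVne.to_subtype
  have hVirr : IrreducibleSpace V := {
    toNonempty := hVne'
    toPreirreducibleSpace := by
      have h1 : IsPreirreducible (V : Set S) := (PreirreducibleSpace.isPreirreducible_univ (X := S)).open_subset V.2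
        (Set.subset_univ _)
      exact Subtype.preirreducibleSpace h1 }
  have hcomp : (i ∣_ (fb ⁻¹ᵁ V)) ≫ (fb ∣_ V) = (i ≫ fb) ∣_ V := (morphismRestrict_comp i fb V).symm
  have hfin0 : IsFinite ((i ≫ fb) ∣_ V) := inferInstance
  have het0 : Etale ((i ≫ fb) ∣_ V) := inferInstance
  have hsurj0 : Function.Surjective ((i ≫ fb) ∣_ V) := by
    rw [← Set.range_eq_univ, range_morphismRestrict, Set.range_eq_univ.2 hsurj]
    exact Set.eq_univ_of_forall fun _ => Set.mem_univ _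
  have hfin : IsFinite ((i ∣_ (fb ⁻¹ᵁ V)) ≫ (fb ∣_ V)) := by rw [hcomp]; exact hfin0
  have het : Etale ((i ∣_ (fb ⁻¹ᵁ V)) ≫ (fb ∣_ V)) := by rw [hcomp]; exact het0
  have hsurjV : Function.Surjective ((i ∣_ (fb ⁻¹ᵁ V)) ≫ (fb ∣_ V)) := by rw [hcomp]; exact hsurj0
  have hj : IsOpenImmersion (j ∣_ (fb ⁻¹ᵁ V)) := inferInstance
  have hi : IsClosedImmersion (i ∣_ (fb ⁻¹ᵁ V)) := inferInstance
  have hrange : Set.range (j ∣_ (fb ⁻¹ᵁ V)) = (Set.range (i ∣_ (fb ⁻¹ᵁ V)))ᶜ := by
    rw [range_morphismRestrict, range_morphismRestrict, hr]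
    rfl
  have hdense : ∀ s : V, (fb ∣_ V) ⁻¹' {s} ⊆ closure (Set.range (j ∣_ (fb ⁻¹ᵁ V)) ∩ (fb ∣_ V) ⁻¹' {s}) :=
    fun s => dense_fibre (fb ∣_ V) (i ∣_ (fb ⁻¹ᵁ V)) _ (by rw [hrange, compl_compl]) s
  have hfsurj : Function.Surjective (fb ∣_ V) := by
    intro s
    obtain ⟨y, hy⟩ := hsurjV s
    exact ⟨_, hy⟩
  have hd2 : Dense (Set.range (j ∣_ (fb ⁻¹ᵁ V))) := by
    intro p
    exact closure_mono Set.inter_subset_left (hdense ((fb ∣_ V) p) rfl)
  have hPne : Nonempty (fb ⁻¹ᵁ V : P.Opens) := by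
    obtain ⟨p, -⟩ := hfsurj (Classical.arbitrary V)
    exact ⟨p⟩
  have hPirr : IrreducibleSpace (fb ⁻¹ᵁ V : P.Opens) := {
    toNonempty := hPne
    toPreirreducibleSpace := by
      constructor
      rw [← hd2.closure_eq]
      apply IsPreirreducible.closure
      rw [← Set.image_univ]
      apply IsPreirreducible.image _ _ (j ∣_ (fb ⁻¹ᵁ V)).continuous.continuousOn
      have h1 : IsPreirreducible ((j ⁻¹ᵁ (fb ⁻¹ᵁ V) : X.Opens) : Set X) :=
        (PreirreducibleSpace.isPreirreducible_univ (X := X)).open_subset (j ⁻¹ᵁ (fb ⁻¹ᵁ V)).2 (Set.subset_univ _)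
      have h2 : PreirreducibleSpace (j ⁻¹ᵁ (fb ⁻¹ᵁ V) : X.Opens) := Subtype.preirreducibleSpace h1
      exact PreirreducibleSpace.isPreirreducible_univ }
  let σV : (V : Scheme.{u}) ⟶ (fb ⁻¹ᵁ V : P.Opens) := (isPullback_morphismRestrict fb V).flip.lift (V.ι ≫ σ) (𝟙 _)
    (by rw [Category.assoc, hσ, Category.comp_id, Category.id_comp])
  have hσV : σV ≫ (fb ∣_ V) = 𝟙 _ := (isPullback_morphismRestrict fb V).flip.lift_snd _ _ _
  have hpre := isPreconnected_fibre_genericPoint (fb ∣_ V) hfsurj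
  refine ⟨_, _, j ∣_ (fb ⁻¹ᵁ V), fb ∣_ V, i ∣_ (fb ⁻¹ᵁ V), (morphismRestrict_comp j fb V).symm, hj,
    hi, hrange, hdense, hsmooth,
    isStronglyProjective_of_isPullback (isPullback_morphismRestrict fb V).flip hproj, ?_, hfin, het, hsurjV⟩
  intro Ω _ _ s
  exact Conn.geomFibres (fb ∣_ V) σV hσV _ hpre Ω s

end Groth.Agent.An.H892.AbsThm
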