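import Groth.Agent.An.H892.FamRing
import Groth.Agent.Ega2.SmoothBdry
import Mathlib.RingTheory.TensorProduct.MvPolynomial
import Mathlib.AlgebraicGeometry.Pullbacks
import Mathlib.RingTheory.Polynomial.Quotient

/-!
# The boundary of the family `h l = t l * u ^ d`
-/

set_option autoImplicit false
universe u
open MvPolynomial CategoryTheory CategoryTheory.Limits AlgebraicGeometry
open Groth.Agent.An.H892.FamRing

namespace Groth.Agent.An.H892.BdAlg

section alg

variable {B : Type u} [CommRing B] {n : ℕ} (h : Fin n → B) (u : B) (d : ℕ)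

/-- the ideal of the boundary points -/
def bdI : Ideal B := (Ideal.span (insert u (Set.range h))).radical

theorem u_mem : u ∈ bdI h u := Ideal.le_radical (Ideal.subset_span (Set.mem_insert _ _))

theorem h_mem (l : Fin n) : h l ∈ bdI h u :=
  Ideal.le_radical (Ideal.subset_span (Set.mem_insert_of_mem _ ⟨l, rfl⟩))

/-- the map from the chart ring to the boundary ring -/
noncomputable def bdHom (hd : d ≠ 0) : FamRing h (u ^ d) →+* MvPolynomial (Fin n) (B ⧸ bdI h u) :=
  Ideal.Quotient.lift _ (MvPolynomial.map (Ideal.Quotient.mk (bdI h u))) (by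
    intro a ha
    have h1 : Ideal.span (Set.range fun l => (C (h l) - X l * C (u ^ d) : MvPolynomial (Fin n) B)) ≤
        RingHom.ker (MvPolynomial.map (σ := Fin n) (Ideal.Quotient.mk (bdI h u))) := by
      rw [Ideal.span_le]
      rintro _ ⟨l, rfl⟩
      rw [SetLike.mem_coe, RingHom.mem_ker, map_sub, map_mul, MvPolynomial.map_C, MvPolynomial.map_C, map_pow,
        Ideal.Quotient.eq_zero_iff_mem.2 (u_mem h u), Ideal.Quotient.eq_zero_iff_mem.2 (h_mem h u l), zero_pow hd,
        map_zero, mul_zero, sub_zero]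
    exact h1 ha)

theorem bdHom_mk (hd : d ≠ 0) (g : MvPolynomial (Fin n) B) :
    bdHom h u d hd (Ideal.Quotient.mk _ g) = MvPolynomial.map (Ideal.Quotient.mk (bdI h u)) g := rfl

theorem bdHom_surjective (hd : d ≠ 0) : Function.Surjective (bdHom h u d hd) := by
  intro g
  obtain ⟨g', rfl⟩ := MvPolynomial.map_surjective _ Ideal.Quotient.mk_surjective g
  exact ⟨Ideal.Quotient.mk _ g', rfl⟩

theorem bdHom_comp_famHom (k : Type u) [Field k] [Algebra k B] (hd : d ≠ 0) :
    (bdHom h u d hd).comp (famHom k h (u ^ d)) = MvPolynomial.map (algebraMap k (B ⧸ bdI h u)) := by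
  refine RingHom.ext fun g => ?_
  change MvPolynomial.map (Ideal.Quotient.mk (bdI h u)) (MvPolynomial.map (algebraMap k B) g) = _
  rw [MvPolynomial.map_map]
  rfl

theorem mem_range_comap_bdHom (hd : d ≠ 0) (p : PrimeSpectrum (FamRing h (u ^ d))) :
    p ∈ Set.range (PrimeSpectrum.comap (bdHom h u d hd)) ↔ (Ideal.Quotient.mk _ (C u) : FamRing h (u ^ d)) ∈ p.asIdeal := by
  constructor
  · rintro ⟨q, rfl⟩
    change bdHom h u d hd (Ideal.Quotient.mk _ (C u)) ∈ q.asIdeal
    rw [bdHom_mk, MvPolynomial.map_C, Ideal.Quotient.eq_zero_iff_mem.2 (u_mem h u), map_zero]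
    exact q.asIdeal.zero_mem
  · intro hp
    rw [range_comap_of_surjective _ _ (bdHom_surjective h u d hd), PrimeSpectrum.mem_zeroLocus]
    have h1 : (bdI h u).map ((Ideal.Quotient.mk _).comp C : B →+* FamRing h (u ^ d)) ≤ p.asIdeal := by
      rw [Ideal.map_le_iff_le_comap]
      have hpr : (p.asIdeal.comap ((Ideal.Quotient.mk _).comp C : B →+* FamRing h (u ^ d))).IsPrime := inferInstance
      refine hpr.isRadical.radical_le_iff.2 ?_
      rw [Ideal.span_le]
      intro b hb
      rcases Set.mem_insert_iff.1 hb with rfl | ⟨l, rfl⟩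
      · exact hp
      · change (Ideal.Quotient.mk _ (C (h l)) : FamRing h (u ^ d)) ∈ p.asIdeal
        have e : (Ideal.Quotient.mk _ (C (u ^ d)) : FamRing h (u ^ d)) = Ideal.Quotient.mk _ (C u) ^ d :=
          (congrArg (Ideal.Quotient.mk _) (map_pow C u d)).trans (map_pow (Ideal.Quotient.mk _) (C u) d)
        have e1 : (Ideal.Quotient.mk _ (C u) : FamRing h (u ^ d)) ^ d ∈ p.asIdeal :=
          Ideal.pow_mem_of_mem _ hp _ (Nat.pos_of_ne_zero hd)
        rw [mk_rel]
        exact Ideal.mul_mem_left _ _ (Set.mem_of_eq_of_mem e e1)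
    intro a ha
    obtain ⟨g, rfl⟩ := Ideal.Quotient.mk_surjective a
    have h2 : g ∈ RingHom.ker (MvPolynomial.map (σ := Fin n) (Ideal.Quotient.mk (bdI h u))) := ha
    rw [MvPolynomial.ker_map, Ideal.mk_ker] at h2
    refine h1 ?_
    rw [← Ideal.map_map]
    exact Ideal.mem_map_of_mem _ h2

end alg

section etale

attribute [local instance] MvPolynomial.algebraMvPolynomial

variable (k : Type u) [Field k] (R : Type u) [CommRing R] [Algebra k R] (n : ℕ)

theorem isPullback_map : IsPullback
    (Spec.map (CommRingCat.ofHom (C : R →+* MvPolynomial (Fin n) R)))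
    (Spec.map (CommRingCat.ofHom (MvPolynomial.map (σ := Fin n) (algebraMap k R))))
    (Spec.map (CommRingCat.ofHom (algebraMap k R)))
    (Spec.map (CommRingCat.ofHom (C : k →+* MvPolynomial (Fin n) k))) := by
  apply isPullback_SpecMap_of_isPushout
  exact CommRingCat.isPushout_of_isPushout k R (MvPolynomial (Fin n) k) (MvPolynomial (Fin n) R)

variable [Module.Finite k R]

theorem isFinite_map : IsFinite (Spec.map (CommRingCat.ofHom (MvPolynomial.map (σ := Fin n) (algebraMap k R)))) := by
  refine MorphismProperty.of_isPullback (P := @IsFinite) (isPullback_map k R n) ?_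
  rw [IsFinite.SpecMap_iff]
  exact RingHom.finite_algebraMap.mpr inferInstance

theorem etale_map [PerfectField k] [_root_.IsReduced R] :
    Etale (Spec.map (CommRingCat.ofHom (MvPolynomial.map (σ := Fin n) (algebraMap k R)))) := by
  refine MorphismProperty.of_isPullback (P := @Etale) (isPullback_map k R n) ?_
  have h1 : IsFinite (Spec.map (CommRingCat.ofHom (algebraMap k R))) := by
    rw [IsFinite.SpecMap_iff]
    exact RingHom.finite_algebraMap.mpr inferInstance
  have h2 : IsArtinianRing R := IsArtinianRing.of_finite k R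
  have h3 : DiscreteTopology (Spec (CommRingCat.of R)) := inferInstanceAs (DiscreteTopology (PrimeSpectrum R))
  have h4 : IsReduced (Spec (CommRingCat.of R)) := inferInstance
  exact Ega2.SmoothBdry.etale_of_discrete _

end etale

end Groth.Agent.An.H892.BdAlg
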