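import Groth.Agent.An.H892.CurveFib
import Groth.Agent.S1364
import Groth.Agent.Flat2B.SmoothGeom

/-!
# Geometric fibres of a smooth proper relative curve with a section
-/

set_option autoImplicit false
universe u

open CategoryTheory CategoryTheory.Limits AlgebraicGeometry TopologicalSpace

namespace Groth.Agent.An.H892.Conn

theorem connectedSpace_of_card {T : Type u} [TopologicalSpace T] (h : ENat.card (_root_.ConnectedComponents T) = 1) :
    ConnectedSpace T := by
  rw [ENat.card_eq_one_iff_unique] at h
  obtain ⟨h4⟩ := h
  obtain ⟨x, hx⟩ := ConnectedComponents.surjective_coe (h4.default)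
  rw [connectedSpace_iff_connectedComponent]
  refine ⟨x, Set.eq_univ_of_forall fun y => ?_⟩
  have h6 : (y : _root_.ConnectedComponents T) = x := Subsingleton.elim _ _
  exact ConnectedComponents.coe_eq_coe'.mp h6

/-- The geometric fibres of a smooth proper relative curve with a section over a connected base are irreducible of
dimension one, as soon as one fibre is connected. -/
theorem geomFibres {X S : Scheme.{u}} (f : X ⟶ S) [IsProper f] [SmoothOfRelativeDimension 1 f] [PreconnectedSpace S]
    (σ : S ⟶ X) (hσ : σ ≫ f = 𝟙 S) (t : S) (ht : _root_.IsPreconnected (f ⁻¹' {t}))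
    (Ω : Type u) [Field Ω] [IsAlgClosed Ω] (s : Spec (CommRingCat.of Ω) ⟶ S) :
    IrreducibleSpace ↥(pullback f s) ∧ topologicalKrullDim ↥(pullback f s) = 1 := by
  have hsm : Smooth f := SmoothOfRelativeDimension.smooth 1 f
  have hgr : GeometricallyReduced f := Flat2B.SmoothGeom.geometricallyReduced_of_smooth f
  have h1 : MoreMor.nGeomConnComp f t = 1 := S1364.nGeomConnComp_eq_one f σ hσ t ht
  have h2 := S1364.result f
  have h3 : MoreMor.nGeomConnComp f (s (IsLocalRing.closedPoint Ω)) = 1 := by
    rw [← h1]
    exact h2.apply_eq_of_preconnectedSpace _ _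
  have h4 := Flat2D.GeomFib.nGeomConnComp_eq f s _ _ (IsPullback.of_hasPullback f s)
  rw [h3] at h4
  have h5 : ConnectedSpace ↥(pullback f s) := connectedSpace_of_card h4
  have h6 : SmoothOfRelativeDimension 1 (pullback.snd f s) :=
    (smoothOfRelativeDimension_isStableUnderBaseChange (n := 1)).of_isPullback (IsPullback.of_hasPullback f s)
      inferInstance
  exact CurveFib.irreducible_and_dim (pullback.snd f s)

end Groth.Agent.An.H892.Conn
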