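import Groth.Agent.Sga4h.CurveHat410

/-!
# Schemes smooth of relative dimension one over a field

* `dense_compl_of_finite`: the complement of a finite closed set is dense;
* `irreducible_and_dim`: connected implies irreducible of dimension one (perfect field).
-/

set_option autoImplicit false
universe u

open CategoryTheory CategoryTheory.Limits AlgebraicGeometry TopologicalSpace

namespace Groth.Agent.An.H892.CurveFib

variable {k : Type u} [Field k]

theorem smoothOfRelativeDimension_comp_ι {X S : Scheme.{u}} (f : X ⟶ S) (n : ℕ) [SmoothOfRelativeDimension n f]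
    (W : X.Opens) : SmoothOfRelativeDimension n (W.ι ≫ f) := by
  have h0 : SmoothOfRelativeDimension (0 + n) (W.ι ≫ f) := inferInstance
  simpa using h0

theorem dense_compl_of_finite {X : Scheme.{u}} (f : X ⟶ Spec (CommRingCat.of k))
    [SmoothOfRelativeDimension 1 f] (F : Set X) (hF : F.Finite) : Dense (Fᶜ : Set X) := by
  rw [← interior_eq_empty_iff_dense_compl, ← Set.not_nonempty_iff_eq_empty]
  rintro ⟨x, hx⟩
  have hsm : Smooth f := SmoothOfRelativeDimension.smooth 1 f
  let O : X.Opens := ⟨interior F, isOpen_interior⟩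
  have hOf : Finite O := (hF.subset interior_subset).to_subtype
  have : LocallyOfFiniteType (O.ι ≫ f) := inferInstance
  have hT : T1Space O := ⟨fun y =>
    Sga4h.CurveHat410.isClosed_singleton_of_finite (O.ι ≫ f) (Z := Set.univ) isClosed_univ Set.finite_univ
      (Set.mem_univ y)⟩
  have hD : DiscreteTopology O := inferInstance
  have h1 : IsOpen ({(⟨x, hx⟩ : O)} : Set O) := isOpen_discrete _
  let W : Scheme.Opens (O : Scheme.{u}) := ⟨{⟨x, hx⟩}, h1⟩
  have h2 : SmoothOfRelativeDimension 1 (O.ι ≫ f) := smoothOfRelativeDimension_comp_ι f 1 O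
  have h3 : SmoothOfRelativeDimension 1 (W.ι ≫ O.ι ≫ f) := smoothOfRelativeDimension_comp_ι _ 1 W
  have h4 : Subsingleton W := by
    constructor
    rintro ⟨a, ha⟩ ⟨b, hb⟩
    exact Subtype.ext (ha.trans hb.symm)
  have h5 : Nonempty W := ⟨⟨⟨x, hx⟩, rfl⟩⟩
  have h6 : IrreducibleSpace W := { toNonempty := h5, toPreirreducibleSpace := inferInstance }
  have h7 := Sga4h.CurveHat410.topologicalKrullDim_eq (W.ι ≫ O.ι ≫ f) 1
  have h8 : topologicalKrullDim W ≤ 0 := topologicalKrullDim_zero_of_discreteTopology W
  rw [h7] at h8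
  exact absurd h8 (by simp)

theorem irreducible_and_dim [PerfectField k] {X : Scheme.{u}} (f : X ⟶ Spec (CommRingCat.of k))
    [SmoothOfRelativeDimension 1 f] [ConnectedSpace X] :
    IrreducibleSpace X ∧ topologicalKrullDim X = 1 := by
  have hsm : Smooth f := SmoothOfRelativeDimension.smooth 1 f
  have : IsLocallyNoetherian X := LocallyOfFiniteType.isLocallyNoetherian f
  have h1 : IsIntegral X := by
    rw [Groth.Agent.Ega1.GenPts.isIntegral_iff]
    exact ⟨inferInstance, fun x => (Groth.Agent.Sga4B.CurveComp.isNormalScheme_of_smooth f x).1⟩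
  have h2 : IrreducibleSpace X := inferInstance
  refine ⟨h2, ?_⟩
  exact_mod_cast Sga4h.CurveHat410.topologicalKrullDim_eq f 1

end Groth.Agent.An.H892.CurveFib
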