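import Groth.Agent.An.H892.FamAlg
import Mathlib.RingTheory.Adjoin.Polynomial.Basic
import Mathlib.Algebra.Polynomial.AlgebraMap

/-!
# The homogeneous vanishing ideal of a point of projective space with values in a field, and its charts

* `hIdeal f`; `mem_hIdeal`; `isHom_hIdeal`;
* `Ch f i`: the chart ring, the subalgebra generated by `f m / f i`; `chx f i m : Ch f i`;
* `ker_aeval_chx`.
-/

set_option autoImplicit false
universe u

open MvPolynomial CohB1 Groth.Agent.CohqB.ProjBC Groth.Agent.Fga.QD1Alg

namespace Groth.Agent.An.H892.HomIdeal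

variable {k K : Type u} [Field k] [Field K] [Algebra k K] {M : ℕ} (f : Fin (M + 1) → K)

/-- the homogeneous vanishing ideal of the point `f` -/
noncomputable def hIdeal (k : Type u) [Field k] [Algebra k K] : Ideal (P M k) :=
  RingHom.ker (aeval (fun m => Polynomial.C (f m) * Polynomial.X) : P M k →ₐ[k] Polynomial K)

theorem aeval_homog {e : ℕ} {g : P M k} (hg : g.IsHomogeneous e) :
    aeval (fun m => Polynomial.C (f m) * Polynomial.X) g = Polynomial.C (aeval f g) * Polynomial.X ^ e := by
  have h1 : aeval (fun m => Polynomial.C (f m) * Polynomial.X) g =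
      eval₂ (algebraMap k (Polynomial K)) (fun j => Polynomial.X * Polynomial.C (f j)) g := by
    rw [MvPolynomial.aeval_def]
    congr 1
    funext j
    exact mul_comm _ _
  rw [h1, eval₂_homogeneous _ _ _ e g hg, mul_comm]
  congr 1
  have h2 := MvPolynomial.hom_eval₂ g (algebraMap k K) (Polynomial.C : K →+* Polynomial K) f
  rw [MvPolynomial.aeval_def, h2]
  rfl

theorem mem_hIdeal {e : ℕ} {g : P M k} (hg : g.IsHomogeneous e) : g ∈ hIdeal f k ↔ aeval f g = 0 := by
  rw [hIdeal, RingHom.mem_ker, aeval_homog f hg]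
  constructor
  · intro h
    have h1 := congrArg (fun p => Polynomial.coeff p e) h
    change (Polynomial.C (aeval f g) * Polynomial.X ^ e).coeff e = (0 : Polynomial K).coeff e at h1
    rwa [Polynomial.coeff_C_mul_X_pow, if_pos rfl, Polynomial.coeff_zero] at h1
  · intro h
    rw [h, map_zero, zero_mul]

theorem coeff_aeval (g : P M k) (e : ℕ) :
    (aeval (fun m => Polynomial.C (f m) * Polynomial.X) g : Polynomial K).coeff e =
      aeval f (homogeneousComponent e g) := by
  have h0 : (∑ i ∈ Finset.range (max g.totalDegree e + 1), homogeneousComponent i g) = g :=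
    sum_range_homogeneousComponent g (by omega)
  conv_lhs => rw [← h0, map_sum, Polynomial.finsetSum_coeff]
  rw [Finset.sum_eq_single e]
  · rw [aeval_homog f (homogeneousComponent_isHomogeneous e g), Polynomial.coeff_C_mul_X_pow, if_pos rfl]
  · intro b _ hb
    rw [aeval_homog f (homogeneousComponent_isHomogeneous b g), Polynomial.coeff_C_mul_X_pow, if_neg (Ne.symm hb)]
  · intro h
    exact absurd (Finset.mem_range.2 (by omega)) h

theorem mem_hIdeal_iff (g : P M k) : g ∈ hIdeal f k ↔ ∀ e, aeval f (homogeneousComponent e g) = 0 := by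
  rw [hIdeal, RingHom.mem_ker]
  constructor
  · intro h e
    rw [← coeff_aeval]
    change (aeval (fun m => Polynomial.C (f m) * Polynomial.X) g : Polynomial K) = 0 at h
    rw [h, Polynomial.coeff_zero]
  · intro h
    change (aeval (fun m => Polynomial.C (f m) * Polynomial.X) g : Polynomial K) = 0
    ext e
    rw [coeff_aeval, h e, Polynomial.coeff_zero]

theorem isHom_hIdeal : IsHom (hIdeal f k) := by
  intro g hg d
  rw [mem_hIdeal f (homogeneousComponent_isHomogeneous d g)]
  exact (mem_hIdeal_iff f g).1 hg d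

theorem aeval_div {e : ℕ} {g : P M k} (hg : g.IsHomogeneous e) (i : Fin (M + 1)) (hi : f i ≠ 0) :
    aeval f g = f i ^ e * aeval (fun m => f m / f i) g := by
  rw [MvPolynomial.aeval_def, MvPolynomial.aeval_def, ← eval₂_homogeneous _ _ _ e g hg]
  congr 1
  funext j
  field_simp

theorem ker_aeval_div (i : Fin (M + 1)) (hi : f i ≠ 0) :
    RingHom.ker (aeval (fun m => f m / f i) : P M k →ₐ[k] K) = hIdeal f k ⊔ Ideal.span {(X i - 1 : P M k)} := by
  have h0 : aeval (fun m => f m / f i) (X i - 1 : P M k) = 0 := by
    rw [map_sub, aeval_X, map_one, div_self hi, sub_self]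
  apply le_antisymm
  · intro g hg
    obtain ⟨N, G, hG, hgG⟩ := FamAlg.exists_homog i g
    have h1 : aeval (fun m => f m / f i) G = 0 := by
      obtain ⟨c, hc⟩ := Ideal.mem_span_singleton.1 hgG
      have h2 : aeval (fun m => f m / f i) (g - G) = 0 := by rw [hc, map_mul, h0, zero_mul]
      have hg' : aeval (fun m => f m / f i) g = 0 := hg
      rw [map_sub, hg', zero_sub, neg_eq_zero] at h2
      exact h2
    have h2 : G ∈ hIdeal f k := by
      rw [mem_hIdeal f hG, aeval_div f hG i hi, h1, mul_zero]
    have h3 : g = G + (g - G) := by ring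
    rw [h3]
    exact Submodule.add_mem_sup h2 hgG
  · rw [sup_le_iff]
    constructor
    · intro g hg
      have h1 : aeval (fun m => f m / f i) g = 0 := by
        conv_lhs => rw [← sum_homogeneousComponent g]
        rw [map_sum]
        refine Finset.sum_eq_zero fun e _ => ?_
        have h2 := (mem_hIdeal_iff f g).1 hg e
        rw [aeval_div f (homogeneousComponent_isHomogeneous e g) i hi] at h2
        exact (mul_eq_zero.1 h2).resolve_left (pow_ne_zero _ hi)
      exact h1
    · rw [Ideal.span_singleton_le_iff_mem]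
      exact h0

/-- the chart ring -/
noncomputable abbrev Ch (k : Type u) [Field k] [Algebra k K] (i : Fin (M + 1)) : Subalgebra k K :=
  Algebra.adjoin k (Set.range fun m => f m / f i)

/-- the coordinates on the chart -/
noncomputable def chx (k : Type u) [Field k] [Algebra k K] (i : Fin (M + 1)) (m : Fin (M + 1)) : Ch f k i :=
  ⟨f m / f i, Algebra.subset_adjoin ⟨m, rfl⟩⟩

theorem val_aeval_chx (i : Fin (M + 1)) (g : P M k) :
    ((aeval (chx f k i) g : Ch f k i) : K) = aeval (fun m => f m / f i) g := by
  have h : (Ch f k i).val.comp (aeval (chx f k i)) = aeval (fun m => f m / f i) := by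
    apply MvPolynomial.algHom_ext
    intro m
    simp [chx]
  exact congrArg (fun φ : P M k →ₐ[k] K => φ g) h

theorem aeval_chx_surjective (i : Fin (M + 1)) : Function.Surjective (aeval (chx f k i) : P M k →ₐ[k] Ch f k i) := by
  rintro ⟨y, hy⟩
  have hy' : y ∈ (aeval (fun m => f m / f i) : P M k →ₐ[k] K).range := by
    rw [← Algebra.adjoin_range_eq_range_aeval]
    exact hy
  obtain ⟨g, hg⟩ := hy'
  exact ⟨g, Subtype.ext ((val_aeval_chx f i g).trans hg)⟩

theorem ker_aeval_chx (i : Fin (M + 1)) (hi : f i ≠ 0) :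
    RingHom.ker (aeval (chx f k i) : P M k →ₐ[k] Ch f k i) = hIdeal f k ⊔ Ideal.span {(X i - 1 : P M k)} := by
  rw [← ker_aeval_div f i hi]
  ext g
  rw [RingHom.mem_ker, RingHom.mem_ker, ← val_aeval_chx f i g]
  exact (Subtype.ext_iff).trans Iff.rfl

theorem chx_self (i : Fin (M + 1)) (hi : f i ≠ 0) : chx f k i i = 1 := Subtype.ext (div_self hi)

end Groth.Agent.An.H892.HomIdeal
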