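import Groth.Agent.Fga.QD1Sch
import Groth.Agent.Dix.ProjProper
import Groth.Agent.An.H892.HomIdeal

/-!
# The family `H l = t l * T 0 ^ d` as a closed subscheme of projective space, with its charts
-/

set_option autoImplicit false
universe u

open CategoryTheory CategoryTheory.Limits AlgebraicGeometry MvPolynomial HomogeneousLocalization CohB1
open Groth.Agent.CohqB.ProjBC Groth.Agent.Fga.QD1Alg Groth.Agent.Fga.QD1Sch
open Groth.Agent.An.H892.FamRing Groth.Agent.An.H892.FamAlg Groth.Agent.An.H892.HomIdeal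

namespace Groth.Agent.An.H892.Fam

section general

variable {A : Type u} [CommRing A] {n : ℕ}

/-- Chart of a closed subscheme of projective space. -/
theorem exists_chart (I : (ProjSpace n A).IdealSheafData) (i : Fin (n + 1)) {C' : Type u} [CommRing C']
    (γ : Rc n A i →+* C') (hγ : Function.Surjective γ) (hker : RingHom.ker γ = chI I i) :
    ∃ c : Spec (CommRingCat.of C') ⟶ I.subscheme,
      IsPullback c (Spec.map (CommRingCat.ofHom γ)) I.subschemeι (chartι n i) := by
  have h1 := Picfga.IdealDescent.isPullback_comap (chartι n i) I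
  obtain ⟨e, he⟩ := exists_iso_subscheme (I.comap (chartι n i))
  have hk : toI (I.comap (chartι n i)) = RingHom.ker γ := hker.symm
  let r : (Rc n A i ⧸ toI (I.comap (chartι n i))) ≃+* C' :=
    (Ideal.quotEquivOfEq hk).trans (RingHom.quotientKerEquivOfSurjective hγ)
  have hr : r.toRingHom.comp (Ideal.Quotient.mk (toI (I.comap (chartι n i)))) = γ := by
    ext z
    rfl
  let E : Spec (CommRingCat.of C') ≅ (I.comap (chartι n i)).subscheme :=
    (Scheme.Spec.mapIso (r.toCommRingCatIso.op)) ≪≫ e.symm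
  have hE : E.hom ≫ (I.comap (chartι n i)).subschemeι = Spec.map (CommRingCat.ofHom γ) := by
    rw [← he]
    simp only [E, Iso.trans_hom, Iso.symm_hom, Category.assoc, Iso.inv_hom_id_assoc]
    rw [← hr, CommRingCat.ofHom_comp, Spec.map_comp]
    rfl
  refine ⟨E.hom ≫ Scheme.IdealSheafData.subschemeMap _ _ _ (I.le_map_comap (chartι n i)), ?_⟩
  refine IsPullback.of_iso h1 E.symm (Iso.refl _) (Iso.refl _) (Iso.refl _) ?_ ?_ ?_ ?_
  · simp
  · rw [Iso.refl_hom, Category.comp_id, ← hE, Iso.symm_hom, Iso.inv_hom_id_assoc]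
  · simp
  · simp

theorem mem_range_chartι (i j : Fin (n + 1)) (p : Spec (CommRingCat.of (Rc n A i))) :
    chartι (A := A) n i p ∈ Set.range (chartι (A := A) n j) ↔ chartHom n i (X j) ∉ p.asIdeal := by
  have h1 : Set.range (chartι (A := A) n j) =
      ((Proj.basicOpen (polyGrading n A) (X j) : (Proj (polyGrading n A)).Opens) : Set (Proj (polyGrading n A))) :=
    congrArg (fun U : (Proj (polyGrading n A)).Opens => (U : Set (Proj (polyGrading n A))))
      (Proj.opensRange_awayι (polyGrading n A) (X j) (X_mem n j) one_pos)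
  have h2 := Proj.awayι_preimage_basicOpen (polyGrading n A) (X_mem (A := A) n i) one_pos (X_mem n j) one_pos
  have h3 : (chartι (A := A) n i p ∈ Set.range (chartι (A := A) n j)) ↔
      p ∈ (Proj.awayι (polyGrading n A) (X i) (X_mem n i) one_pos ⁻¹ᵁ
        (Proj.basicOpen (polyGrading n A) (X j))) := by
    rw [h1]
    rfl
  rw [h3, h2, chartHom_X]
  have h5 : Away.isLocalizationElem (X_mem (A := A) n i) (X_mem n j) =
      Away.mk (polyGrading n A) (X_mem n i) 1 (X j) (by simpa using X_mem n j) := by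
    apply HomogeneousLocalization.val_injective
    rw [Away.isLocalizationElem, Away.val_mk, Away.val_mk]
    congr 1
    · simp
  rw [h5]
  rfl

end general

section family

variable {k K : Type u} [Field k] [Field K] [Algebra k K] {M n : ℕ} (f : Fin (M + 1) → K)
  (H : Fin n → P M k) (d : ℕ)

/-- the chart rings of the family -/
abbrev FR (k : Type u) [Field k] [Algebra k K] {M n : ℕ} (f : Fin (M + 1) → K)
  (H : Fin n → P M k) (d : ℕ) (i : Fin (M + 1)) : Type u :=
  FamRing (fun l => aeval (chx f k i) (H l)) (chx f k i 0 ^ d)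

/-- the map from the chart ring of projective space to the chart ring of the family -/
noncomputable def chMap (k : Type u) [Field k] [Algebra k K] {M n : ℕ} (f : Fin (M + 1) → K) (hf : ∀ i, f i ≠ 0)
    (H : Fin n → P M k) (d : ℕ) (i : Fin (M + 1)) : Rc M (MvPolynomial (Fin n) k) i →+* FR k f H d i :=
  chHom i (famTheta k (chx f k i) H d) (by rw [famTheta_X, chx_self f i (hf i), map_one, map_one])

theorem chMap_chartHom (hf : ∀ i, f i ≠ 0) (i : Fin (M + 1)) (g : P M (MvPolynomial (Fin n) k)) :
    chMap k f hf H d i (chartHom M i g) = famTheta k (chx f k i) H d g :=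
  chHom_chartHom _ _ _ _

/-- The family as a closed subscheme of projective space over the parameter ring. -/
structure FamData (k : Type u) [Field k] [Algebra k K] {M n : ℕ} (f : Fin (M + 1) → K) (hf : ∀ i, f i ≠ 0)
    (H : Fin n → P M k) (d : ℕ) where
  Z : Scheme.{u}
  ι : Z ⟶ ProjSpace M (MvPolynomial (Fin n) k)
  c : ∀ i, Spec (CommRingCat.of (FR k f H d i)) ⟶ Z
  closed : IsClosedImmersion ι
  pb : ∀ i, IsPullback (c i) (Spec.map (CommRingCat.ofHom (chMap k f hf H d i))) ι (chartι M i)

theorem exists_famData (hf : ∀ i, f i ≠ 0) (hH : ∀ l, (H l).IsHomogeneous d) : Nonempty (FamData k f hf H d) := by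
  obtain ⟨I, hI⟩ := exists_chI_eq (compat_ch (isHom_famIdeal k H d (isHom_hIdeal f (k := k)) hH))
  have h : ∀ i, ∃ c : Spec (CommRingCat.of (FR k f H d i)) ⟶ I.subscheme,
      IsPullback c (Spec.map (CommRingCat.ofHom (chMap k f hf H d i))) I.subschemeι (chartι M i) := by
    intro i
    refine exists_chart I i _ ?_ ?_
    · exact chHom_surjective _ _ _ (famTheta_surjective k _ H d (aeval_chx_surjective f i))
    · rw [hI]
      exact ker_chHom _ _ _ _ (ker_famTheta k _ H d i (aeval_chx_surjective f i) (ker_aeval_chx f i (hf i)))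
  choose c hc using h
  exact ⟨⟨I.subscheme, I.subschemeι, c, inferInstance, hc⟩⟩

variable {f H d} {hf : ∀ i, f i ≠ 0} (D : FamData k f hf H d)

namespace FamData

/-- the structure morphism -/
noncomputable def fb : D.Z ⟶ Spec (CommRingCat.of (MvPolynomial (Fin n) k)) := D.ι ≫ ProjSpace.toSpec M _

instance : IsClosedImmersion D.ι := D.closed

instance (i : Fin (M + 1)) : IsOpenImmersion (D.c i) :=
  MorphismProperty.of_isPullback (P := @IsOpenImmersion) (D.pb i).flip inferInstance

theorem exists_c_eq (z : D.Z) : ∃ (i : Fin (M + 1)) (p : _), D.c i p = z := by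
  obtain ⟨i, y, hy⟩ := exists_chartι_eq (D.ι z)
  obtain ⟨p, hp, -⟩ := Scheme.exists_preimage_of_isPullback (D.pb i) z y hy.symm
  exact ⟨i, p, hp⟩

theorem chMap_comp_awayAlg (i : Fin (M + 1)) : (chMap k f hf H d i).comp (awayAlg M (X i)) =
    famHom k (fun l => aeval (chx f k i) (H l)) (chx f k i 0 ^ d) := by
  refine RingHom.ext fun a => ?_
  have h1 : awayAlg M (X i) = chartAlg (A := MvPolynomial (Fin n) k) M i := rfl
  rw [RingHom.comp_apply, h1, ← chartHom_C, chMap_chartHom, famTheta_C]

theorem c_fb (i : Fin (M + 1)) : D.c i ≫ D.fb =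
    Spec.map (CommRingCat.ofHom (famHom k (fun l => aeval (chx f k i) (H l)) (chx f k i 0 ^ d))) := by
  rw [fb, ← Category.assoc, (D.pb i).w, Category.assoc, chartι_toSpec, ← Spec.map_comp, ← CommRingCat.ofHom_comp,
    chMap_comp_awayAlg]

theorem mem_range_c (i j : Fin (M + 1)) (p : Spec (CommRingCat.of (FR k f H d i))) :
    D.c i p ∈ Set.range (D.c j) ↔ (Ideal.Quotient.mk _ (C (chx f k i j)) : FR k f H d i) ∉ p.asIdeal := by
  have h1 : D.c i p ∈ Set.range (D.c j) ↔ D.ι (D.c i p) ∈ Set.range (chartι (A := MvPolynomial (Fin n) k) M j) := by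
    constructor
    · rintro ⟨q, hq⟩
      rw [← hq, ← Scheme.Hom.comp_apply, (D.pb j).w, Scheme.Hom.comp_apply]
      exact ⟨_, rfl⟩
    · rintro ⟨y, hy⟩
      obtain ⟨q, hq, -⟩ := Scheme.exists_preimage_of_isPullback (D.pb j) (D.c i p) y hy.symm
      exact ⟨q, hq⟩
  rw [h1, ← Scheme.Hom.comp_apply, (D.pb i).w, Scheme.Hom.comp_apply, mem_range_chartι]
  have h2 : chMap k f hf H d i (chartHom M i (X j)) = Ideal.Quotient.mk _ (C (chx f k i j)) := by
    rw [chMap_chartHom, famTheta_X]
  rw [← h2]
  rfl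

end FamData

end family

end Groth.Agent.An.H892.Fam
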