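import Groth.Agent.Fga.QD1Alg
import Groth.Agent.An.H892.FamRing

/-!
# Charts of the family `H l = t l * T 0 ^ d` in projective space

* `ker_chartHom`, `chHom`: maps out of the chart ring `Rc n A i` are maps out of the polynomial ring with `X i ↦ 1`;
* `ker_famTheta`: the kernel of `A[T] → FamRing`.
* `hIdeal f`: the homogeneous vanishing ideal of the point `f` of projective space with values in a field.
-/

set_option autoImplicit false
universe u

open MvPolynomial HomogeneousLocalization CohB1 Groth.Agent.CohqB.ProjBC Groth.Agent.Fga.QD1Alg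
open Groth.Agent.An.H892.FamRing

namespace Groth.Agent.An.H892.FamAlg

section chart

variable {A : Type u} [CommRing A] {n : ℕ}

/-- Homogenization with respect to `X i`: every polynomial is congruent mod `X i - 1` to a homogeneous one. -/
theorem exists_homog (i : Fin (n + 1)) (g : P n A) : ∃ (N : ℕ) (G : P n A), G.IsHomogeneous N ∧
    g - G ∈ Ideal.span {(X i - 1 : P n A)} := by
  let N := g.totalDegree
  refine ⟨N, ∑ e ∈ Finset.range (N + 1), X i ^ (N - e) * homogeneousComponent e g, ?_, ?_⟩
  · apply IsHomogeneous.sum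
    intro e he
    have h1 := (isHomogeneous_X_pow (R := A) i (N - e)).mul (homogeneousComponent_isHomogeneous e g)
    rwa [Nat.sub_add_cancel (Nat.le_of_lt_succ (Finset.mem_range.1 he))] at h1
  · have h1 : g - ∑ e ∈ Finset.range (N + 1), X i ^ (N - e) * homogeneousComponent e g =
        ∑ e ∈ Finset.range (N + 1), (1 - X i ^ (N - e)) * homogeneousComponent e g := by
      conv_lhs => rw [← sum_range_homogeneousComponent g (N := N + 1) (by omega)]
      rw [← Finset.sum_sub_distrib]
      refine Finset.sum_congr rfl fun e he => ?_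
      have h2 : homogeneousComponent e (∑ k ∈ Finset.range (N + 1), homogeneousComponent k g) =
          homogeneousComponent e g := by
        rw [sum_range_homogeneousComponent g (N := N + 1) (by omega)]
      rw [h2]
      ring
    rw [h1]
    refine Ideal.sum_mem _ fun e _ => Ideal.mul_mem_right _ _ ?_
    rw [Ideal.mem_span_singleton]
    have h3 : (X i - 1 : P n A) ∣ X i ^ (N - e) - 1 := by
      simpa using sub_dvd_pow_sub_pow (X i : P n A) 1 (N - e)
    have h4 : (1 - X i ^ (N - e) : P n A) = -(X i ^ (N - e) - 1) := by ring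
    rw [h4]
    exact (dvd_neg).2 h3

theorem ker_chartHom (i : Fin (n + 1)) :
    RingHom.ker (chartHom (A := A) n i) = Ideal.span {(X i - 1 : P n A)} := by
  apply le_antisymm
  · intro g hg
    obtain ⟨N, G, hG, hgG⟩ := exists_homog i g
    have h1 : chartHom n i G = 0 := by
      have h2 : chartHom n i (g - G) = 0 := by
        obtain ⟨c, hc⟩ := Ideal.mem_span_singleton.1 hgG
        rw [hc, map_mul, map_sub, chartHom_X_self, map_one, sub_self, zero_mul]
      rw [map_sub, RingHom.mem_ker.1 hg, zero_sub, neg_eq_zero] at h2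
      exact h2
    have h3 : G = 0 := eq_zero_of_chartHom i hG h1
    simpa [h3] using hgG
  · rw [Ideal.span_singleton_le_iff_mem, RingHom.mem_ker, map_sub, chartHom_X_self, map_one, sub_self]

variable {C' : Type u} [CommRing C']

/-- maps out of a chart ring -/
noncomputable def chHom (i : Fin (n + 1)) (Θ : P n A →+* C') (hΘ : Θ (X i) = 1) : Rc n A i →+* C' :=
  RingHom.liftOfSurjective (chartHom (A := A) n i) (chartHom_surjective n i) ⟨Θ, by
    rw [ker_chartHom, Ideal.span_singleton_le_iff_mem, RingHom.mem_ker, map_sub, hΘ, map_one, sub_self]⟩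

@[simp]
theorem chHom_chartHom (i : Fin (n + 1)) (Θ : P n A →+* C') (hΘ : Θ (X i) = 1) (g : P n A) :
    chHom i Θ hΘ (chartHom n i g) = Θ g :=
  RingHom.liftOfRightInverse_comp_apply _ _ (Function.rightInverse_surjInv (chartHom_surjective n i)) _ g

theorem chHom_surjective (i : Fin (n + 1)) (Θ : P n A →+* C') (hΘ : Θ (X i) = 1)
    (hs : Function.Surjective Θ) : Function.Surjective (chHom i Θ hΘ) := by
  intro c
  obtain ⟨g, rfl⟩ := hs c
  exact ⟨chartHom n i g, chHom_chartHom i Θ hΘ g⟩

theorem ker_chHom (i : Fin (n + 1)) (Θ : P n A →+* C') (hΘ : Θ (X i) = 1) (J : Ideal (P n A))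
    (hJ : RingHom.ker Θ = J ⊔ Ideal.span {(X i - 1 : P n A)}) :
    RingHom.ker (chHom i Θ hΘ) = ch J i := by
  ext z
  obtain ⟨g, rfl⟩ := chartHom_surjective n i z
  rw [RingHom.mem_ker, chHom_chartHom, ← RingHom.mem_ker, hJ, ← ker_chartHom, ch]
  constructor
  · intro h
    obtain ⟨a, ha, b, hb, rfl⟩ := Submodule.mem_sup.1 h
    rw [map_add, RingHom.mem_ker.1 hb, add_zero]
    exact Ideal.mem_map_of_mem _ ha
  · intro h
    obtain ⟨a, ha, hag⟩ := (Ideal.mem_map_iff_of_surjective _ (chartHom_surjective n i)).1 h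
    have h1 : g - a ∈ RingHom.ker (chartHom (A := A) n i) := by
      rw [RingHom.mem_ker, map_sub, hag, sub_self]
    have h2 : g = a + (g - a) := by ring
    rw [h2]
    exact Submodule.add_mem_sup ha h1

end chart

section theta

variable (k : Type u) [Field k] {B : Type u} [CommRing B] [Algebra k B] {M n : ℕ}

/-- the ideal of the family `H l = t l * T 0 ^ d` over the ideal `Jk` -/
noncomputable def famIdeal (Jk : Ideal (P M k)) (H : Fin n → P M k) (d : ℕ) : Ideal (P M (MvPolynomial (Fin n) k)) :=
  Jk.map (MvPolynomial.map (C : k →+* MvPolynomial (Fin n) k)) ⊔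
    Ideal.span (Set.range fun l => (MvPolynomial.map (C : k →+* MvPolynomial (Fin n) k) (H l) -
      C (X l) * X 0 ^ d : P M (MvPolynomial (Fin n) k)))

/-- the map `k[t][T] → FamRing` -/
noncomputable def famTheta (b : Fin (M + 1) → B) (H : Fin n → P M k) (d : ℕ) :
    P M (MvPolynomial (Fin n) k) →+* FamRing (fun l => aeval b (H l)) (b 0 ^ d) :=
  eval₂Hom (famHom k _ _) (fun m => Ideal.Quotient.mk _ (C (b m)))

variable (b : Fin (M + 1) → B) (H : Fin n → P M k) (d : ℕ)

theorem famTheta_X (m : Fin (M + 1)) : famTheta k b H d (X m) = Ideal.Quotient.mk _ (C (b m)) := by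
  simp [famTheta]

theorem famTheta_C (a : MvPolynomial (Fin n) k) : famTheta k b H d (C a) = famHom k _ _ a := by
  simp [famTheta]

theorem famTheta_map (g : P M k) : famTheta k b H d (MvPolynomial.map C g) =
    Ideal.Quotient.mk _ (C (aeval b g)) := by
  have h : (famTheta k b H d).comp (MvPolynomial.map (C : k →+* MvPolynomial (Fin n) k)) =
      ((Ideal.Quotient.mk _).comp (C : B →+* MvPolynomial (Fin n) B)).comp (aeval b).toRingHom := by
    apply MvPolynomial.ringHom_ext
    · intro a
      simp [famTheta_C, famHom_C]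
    · intro m
      simp [famTheta_X]
  exact congrArg (fun φ : P M k →+* _ => φ g) h

theorem famTheta_surjective (hb : Function.Surjective (aeval b : P M k →ₐ[k] B)) :
    Function.Surjective (famTheta k b H d) := by
  intro c
  obtain ⟨c, rfl⟩ := Ideal.Quotient.mk_surjective c
  induction c using MvPolynomial.induction_on with
  | C a =>
    obtain ⟨g, rfl⟩ := hb a
    exact ⟨_, famTheta_map k b H d g⟩
  | add p q hp hq =>
    obtain ⟨x, hx⟩ := hp
    obtain ⟨y, hy⟩ := hq
    exact ⟨x + y, by rw [map_add, hx, hy, map_add]⟩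
  | mul_X p l hp =>
    obtain ⟨x, hx⟩ := hp
    exact ⟨x * C (X l), by rw [map_mul, hx, famTheta_C, famHom_X, map_mul]⟩

theorem famIdeal_le_ker {Jk : Ideal (P M k)} (hJ : ∀ g ∈ Jk, aeval b g = 0) :
    famIdeal k Jk H d ≤ RingHom.ker (famTheta k b H d) := by
  rw [famIdeal, sup_le_iff]
  constructor
  · rw [Ideal.map_le_iff_le_comap]
    intro g hg
    rw [Ideal.mem_comap, RingHom.mem_ker, famTheta_map, hJ g hg, map_zero, map_zero]
  · rw [Ideal.span_le]
    rintro _ ⟨l, rfl⟩
    have h1 : famTheta k b H d (X 0 ^ d) = Ideal.Quotient.mk _ (C (b 0 ^ d)) := by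
      rw [map_pow, famTheta_X, ← map_pow, ← map_pow]
    have h2 := mk_rel (fun l => aeval b (H l)) (b 0 ^ d) l
    rw [SetLike.mem_coe, RingHom.mem_ker, map_sub, map_mul, famTheta_map, famTheta_C, famHom_X, h1]
    exact sub_eq_zero.2 h2

theorem ker_famTheta {Jk : Ideal (P M k)} (i : Fin (M + 1))
    (hb : Function.Surjective (aeval b : P M k →ₐ[k] B))
    (hker : RingHom.ker (aeval b : P M k →ₐ[k] B) = Jk ⊔ Ideal.span {(X i - 1 : P M k)}) :
    RingHom.ker (famTheta k b H d) = famIdeal k Jk H d ⊔ Ideal.span {(X i - 1 : P M (MvPolynomial (Fin n) k))} := by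
  have hJ : ∀ g ∈ Jk, aeval b g = 0 := fun g hg => by
    have : g ∈ RingHom.ker (aeval b : P M k →ₐ[k] B) := hker ▸ Ideal.mem_sup_left hg
    exact this
  have hi : aeval b (X i - 1 : P M k) = 0 := by
    have : (X i - 1 : P M k) ∈ RingHom.ker (aeval b : P M k →ₐ[k] B) :=
      hker ▸ Ideal.mem_sup_right (Ideal.mem_span_singleton_self _)
    exact this
  apply le_antisymm
  · let N := famIdeal k Jk H d ⊔ Ideal.span {(X i - 1 : P M (MvPolynomial (Fin n) k))}
    let π : P M k →+* B := (aeval b : P M k →ₐ[k] B).toRingHom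
    let ι : P M k →+* P M (MvPolynomial (Fin n) k) ⧸ N := (Ideal.Quotient.mk N).comp (MvPolynomial.map C)
    have hι : RingHom.ker π ≤ RingHom.ker ι := by
      have h0 : RingHom.ker π = Jk ⊔ Ideal.span {(X i - 1 : P M k)} := hker
      rw [h0, sup_le_iff]
      constructor
      · intro g hg
        rw [RingHom.mem_ker]
        exact Ideal.Quotient.eq_zero_iff_mem.2 (Ideal.mem_sup_left (Ideal.mem_sup_left (Ideal.mem_map_of_mem _ hg)))
      · rw [Ideal.span_singleton_le_iff_mem, RingHom.mem_ker]
        refine Ideal.Quotient.eq_zero_iff_mem.2 (Ideal.mem_sup_right ?_)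
        rw [map_sub, MvPolynomial.map_X, map_one]
        exact Ideal.mem_span_singleton_self _
    let β : B →+* P M (MvPolynomial (Fin n) k) ⧸ N := RingHom.liftOfSurjective π hb ⟨ι, hι⟩
    have hβ : ∀ g, β (aeval b g) = Ideal.Quotient.mk N (MvPolynomial.map C g) := fun g =>
      RingHom.liftOfRightInverse_comp_apply π _ (Function.rightInverse_surjInv hb) ⟨ι, hι⟩ g
    let Ψ₀ : MvPolynomial (Fin n) B →+* P M (MvPolynomial (Fin n) k) ⧸ N :=
      eval₂Hom β (fun l => Ideal.Quotient.mk N (C (X l)))
    have hb0 : b 0 ^ d = aeval b (X 0 ^ d : P M k) := by simp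
    have hΨ₀ : ∀ a ∈ Ideal.span (Set.range fun l => (C (aeval b (H l)) - X l * C (b 0 ^ d) : MvPolynomial (Fin n) B)),
        Ψ₀ a = 0 := by
      intro a ha
      have h1 : Ideal.span (Set.range fun l => (C (aeval b (H l)) - X l * C (b 0 ^ d) : MvPolynomial (Fin n) B)) ≤
          RingHom.ker Ψ₀ := by
        rw [Ideal.span_le]
        rintro _ ⟨l, rfl⟩
        rw [SetLike.mem_coe, RingHom.mem_ker, hb0, map_sub, map_mul]
        have e1 : Ψ₀ (C (aeval b (H l))) = Ideal.Quotient.mk N (MvPolynomial.map C (H l)) := by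
          rw [← hβ]; exact eval₂Hom_C _ _ _
        have e2 : Ψ₀ (C (aeval b (X 0 ^ d : P M k))) = Ideal.Quotient.mk N (X 0 ^ d) := by
          have h : (MvPolynomial.map C (X 0 ^ d : P M k) : P M (MvPolynomial (Fin n) k)) = X 0 ^ d := by simp
          rw [← h, ← hβ]; exact eval₂Hom_C _ _ _
        have e3 : Ψ₀ (X l) = Ideal.Quotient.mk N (C (X l)) := eval₂Hom_X' _ _ _
        rw [e1, e2, e3, ← map_mul, ← map_sub]
        exact Ideal.Quotient.eq_zero_iff_mem.2 (Ideal.mem_sup_left (Ideal.mem_sup_right (Ideal.subset_span ⟨l, rfl⟩)))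
      exact h1 ha
    let Ψ : FamRing (fun l => aeval b (H l)) (b 0 ^ d) →+* P M (MvPolynomial (Fin n) k) ⧸ N :=
      Ideal.Quotient.lift _ Ψ₀ hΨ₀
    have hcomp : Ψ.comp (famTheta k b H d) = Ideal.Quotient.mk N := by
      apply MvPolynomial.ringHom_ext
      · intro a
        have h2 : (Ψ.comp (famTheta k b H d)).comp C = (Ideal.Quotient.mk N).comp C := by
          apply MvPolynomial.ringHom_ext
          · intro c
            have h3 : (algebraMap k B c) = aeval b (C c : P M k) := by simp
            simp only [RingHom.comp_apply, famTheta_C, famHom_C]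
            change Ψ₀ (C (algebraMap k B c)) = _
            rw [h3, eval₂Hom_C, hβ, MvPolynomial.map_C]
          · intro l
            simp only [RingHom.comp_apply, famTheta_C, famHom_X]
            change Ψ₀ (X l) = _
            rw [eval₂Hom_X']
        exact congrArg (fun φ : MvPolynomial (Fin n) k →+* _ => φ a) h2
      · intro m
        have h3 : b m = aeval b (X m : P M k) := by simp
        simp only [RingHom.comp_apply, famTheta_X]
        change Ψ₀ (C (b m)) = _
        rw [h3, eval₂Hom_C, hβ, MvPolynomial.map_X]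
    intro g hg
    have h4 : Ideal.Quotient.mk N g = 0 := by
      rw [← hcomp, RingHom.comp_apply, RingHom.mem_ker.1 hg, map_zero]
    exact Ideal.Quotient.eq_zero_iff_mem.1 h4
  · rw [sup_le_iff]
    refine ⟨famIdeal_le_ker k b H d hJ, ?_⟩
    rw [Ideal.span_singleton_le_iff_mem, RingHom.mem_ker, map_sub, famTheta_X, map_one]
    have h5 : b i = 1 := by
      have := hi
      simpa [sub_eq_zero] using this
    rw [h5, map_one, map_one, sub_self]

theorem isHom_famIdeal {Jk : Ideal (P M k)} (hJ : IsHom Jk) (hH : ∀ l, (H l).IsHomogeneous d) :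
    IsHom (famIdeal k Jk H d) := by
  rw [← isHomogeneous_iff, famIdeal]
  refine Ideal.IsHomogeneous.sup ((isHomogeneous_iff _).2 (IsHom.map _ hJ)) ?_
  refine Ideal.homogeneous_span _ _ ?_
  rintro _ ⟨l, rfl⟩
  refine ⟨d, ?_⟩
  rw [mem_polyGrading]
  refine ((hH l).map _).sub ?_
  have h1 := (isHomogeneous_C (Fin (M + 1)) (X l : MvPolynomial (Fin n) k)).mul
    (isHomogeneous_X_pow (R := MvPolynomial (Fin n) k) (0 : Fin (M + 1)) d)
  rwa [zero_add] at h1

end theta

end Groth.Agent.An.H892.FamAlg
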