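import Groth.Agent.An.H892.Fam
import Groth.Agent.An.H892.BdAlg
import Groth.Agent.Ega1.ReducedSub

/-!
# The boundary of the family
-/

set_option autoImplicit false
universe u

open CategoryTheory CategoryTheory.Limits AlgebraicGeometry MvPolynomial CohB1
open Groth.Agent.CohqB.ProjBC Groth.Agent.Fga.QD1Alg Groth.Agent.Fga.QD1Sch
open Groth.Agent.An.H892.FamRing Groth.Agent.An.H892.FamAlg Groth.Agent.An.H892.HomIdeal Groth.Agent.An.H892.Fam
  Groth.Agent.An.H892.BdAlg

namespace Groth.Agent.An.H892.FamBd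

variable {k K : Type u} [Field k] [Field K] [Algebra k K] {M n : ℕ} {f : Fin (M + 1) → K}
  {H : Fin n → P M k} {d : ℕ} {hf : ∀ i, f i ≠ 0} (D : FamData k f hf H d)

/-- the boundary ideal of the chart -/
noncomputable abbrev bI (k : Type u) [Field k] [Algebra k K] (f : Fin (M + 1) → K) (H : Fin n → P M k) (i : Fin (M + 1)) :
    Ideal (Ch f k i) := bdI (fun l => aeval (chx f k i) (H l)) (chx f k i 0)

instance isProper_fb : IsProper D.fb := by
  have : IsProper (ProjSpace.toSpec M (MvPolynomial (Fin n) k)) := inferInstance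
  exact inferInstanceAs (IsProper (D.ι ≫ ProjSpace.toSpec M _))

theorem exists_boundary : ∃ (Y : Scheme.{u}) (i : Y ⟶ D.Z), IsClosedImmersion i ∧ IsReduced Y ∧
    Set.range i = (Set.range (D.c 0))ᶜ := by
  have hcl : IsClosed (Set.range (D.c 0))ᶜ := (D.c 0).isOpenEmbedding.isOpen_range.isClosed_compl
  obtain ⟨Y, i, hi, hY, hr⟩ := Ega1.ReducedSub.exists_reduced_immersion _ hcl.isLocallyClosed
  exact ⟨Y, i, IsClosedImmersion.of_isPreimmersion i (by rw [hr]; exact hcl), hY, hr⟩

variable {Y : Scheme.{u}} (i : Y ⟶ D.Z) [IsClosedImmersion i] [IsReduced Y] (hr : Set.range i = (Set.range (D.c 0))ᶜ)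

include hr in
theorem mem_range_iff (m : Fin (M + 1)) (p : Spec (CommRingCat.of (FR k f H d m))) :
    D.c m p ∈ Set.range i ↔ (Ideal.Quotient.mk _ (C (chx f k m 0)) : FR k f H d m) ∈ p.asIdeal := by
  rw [hr, Set.mem_compl_iff, D.mem_range_c m 0 p, not_not]

include hr in
/-- The boundary on a chart. -/
theorem exists_isPullback (hd : d ≠ 0) (m : Fin (M + 1))
    [_root_.IsReduced (MvPolynomial (Fin n) (Ch f k m ⧸ bI k f H m))] :
    ∃ c' : Spec (CommRingCat.of (MvPolynomial (Fin n) (Ch f k m ⧸ bI k f H m))) ⟶ Y,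
      IsPullback c' (Spec.map (CommRingCat.ofHom (bdHom (fun l => aeval (chx f k m) (H l)) (chx f k m 0) d hd))) i
        (D.c m) := by
  have h1 := IsPullback.of_hasPullback i (D.c m)
  have hcl : IsClosedImmersion (Spec.map (CommRingCat.ofHom
      (bdHom (fun l => aeval (chx f k m) (H l)) (chx f k m 0) d hd))) :=
    IsClosedImmersion.spec_of_surjective _ (bdHom_surjective _ _ _ hd)
  have hred : IsReduced (pullback i (D.c m)) := isReduced_of_isOpenImmersion (pullback.fst i (D.c m))
  have hrange : Set.range (Spec.map (CommRingCat.ofHom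
      (bdHom (fun l => aeval (chx f k m) (H l)) (chx f k m 0) d hd))) = Set.range (pullback.snd i (D.c m)) := by
    ext p
    have h2 : p ∈ Set.range (pullback.snd i (D.c m)) ↔ D.c m p ∈ Set.range i := by
      constructor
      · rintro ⟨q, rfl⟩
        exact ⟨pullback.fst i (D.c m) q, by
          rw [← Scheme.Hom.comp_apply, pullback.condition, Scheme.Hom.comp_apply]⟩
      · rintro ⟨y, hy⟩
        obtain ⟨q, -, hq⟩ := Scheme.exists_preimage_of_isPullback h1 y p hy
        exact ⟨q, hq⟩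
    rw [h2, mem_range_iff D i hr]
    exact mem_range_comap_bdHom _ _ _ hd p
  obtain ⟨e, he⟩ := Ega1.ReducedSub.exists_iso_of_range_eq _ _ hrange
  refine ⟨e.hom ≫ pullback.fst i (D.c m), ?_⟩
  refine IsPullback.of_iso h1 e.symm (Iso.refl _) (Iso.refl _) (Iso.refl _) ?_ ?_ ?_ ?_
  · simp
  · rw [Iso.refl_hom, Category.comp_id, ← he, Iso.symm_hom, Iso.inv_hom_id_assoc]
  · simp
  · simp

end Groth.Agent.An.H892.FamBd
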