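import Groth.Agent.An.H892.FamBd
import Groth.Agent.Desc.LQF
import Mathlib.AlgebraicGeometry.ZariskisMainTheorem
import Mathlib.AlgebraicGeometry.Morphisms.Etale

/-!
# The boundary of the family is finite étale over the base
-/

set_option autoImplicit false
universe u

open CategoryTheory CategoryTheory.Limits AlgebraicGeometry MvPolynomial CohB1
open Groth.Agent.CohqB.ProjBC Groth.Agent.Fga.QD1Alg Groth.Agent.Fga.QD1Sch
open Groth.Agent.An.H892.FamRing Groth.Agent.An.H892.FamAlg Groth.Agent.An.H892.HomIdeal Groth.Agent.An.H892.Fam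
  Groth.Agent.An.H892.BdAlg Groth.Agent.An.H892.FamBd

namespace Groth.Agent.An.H892.FamBd2

variable {k K : Type u} [Field k] [Field K] [Algebra k K] {M n : ℕ} {f : Fin (M + 1) → K}
  {H : Fin n → P M k} {d : ℕ} {hf : ∀ i, f i ≠ 0} (D : FamData k f hf H d)

/-- étaleness can be checked on open immersions covering the source -/
theorem etale_of_cover {X S : Scheme.{u}} (f : X ⟶ S)
    (h : ∀ x : X, ∃ (U : Scheme.{u}) (o : U ⟶ X), IsOpenImmersion o ∧ x ∈ Set.range o ∧ Etale (o ≫ f)) : Etale f := by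
  choose U o ho hx hs using h
  rw [IsZariskiLocalAtSource.iff_of_iSup_eq_top (P := @Etale) (fun x => (o x).opensRange)]
  · intro x
    have h1 : (o x).opensRange.ι ≫ f = (o x).isoOpensRange.inv ≫ o x ≫ f := by
      rw [← Category.assoc, Scheme.Hom.isoOpensRange_inv_comp]
    rw [h1]
    exact (MorphismProperty.cancel_left_of_respectsIso (P := @Etale) _ _).2 (hs x)
  · rw [eq_top_iff]
    intro x _
    exact TopologicalSpace.Opens.mem_iSup.2 ⟨x, hx x⟩

variable {Y : Scheme.{u}} (i : Y ⟶ D.Z) [IsClosedImmersion i] [IsReduced Y] (hr : Set.range i = (Set.range (D.c 0))ᶜ)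
  (hd : d ≠ 0)
  (hfin : ∀ m, Module.Finite k (Ch f k m ⧸ bI k f H m))

theorem isReduced_quot (m : Fin (M + 1)) : _root_.IsReduced (Ch f k m ⧸ bI k f H m) :=
  (Ideal.isRadical_iff_quotient_reduced _).mp (Ideal.radical_isRadical _)

theorem isReduced_mvQuot (m : Fin (M + 1)) : _root_.IsReduced (MvPolynomial (Fin n) (Ch f k m ⧸ bI k f H m)) := by
  have := isReduced_quot (k := k) (f := f) (H := H) m
  infer_instance

theorem chart_comp (m : Fin (M + 1)) (c' : Spec (CommRingCat.of (MvPolynomial (Fin n) (Ch f k m ⧸ bI k f H m))) ⟶ Y)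
    (hc' : IsPullback c' (Spec.map (CommRingCat.ofHom (bdHom (fun l => aeval (chx f k m) (H l)) (chx f k m 0) d hd))) i
        (D.c m)) :
    c' ≫ i ≫ D.fb = Spec.map (CommRingCat.ofHom (MvPolynomial.map (σ := Fin n)
      (algebraMap k (Ch f k m ⧸ bI k f H m)))) := by
  rw [← Category.assoc, hc'.w, Category.assoc, D.c_fb, ← Spec.map_comp, ← CommRingCat.ofHom_comp,
    bdHom_comp_famHom]

include hr hd hfin in
theorem etale_boundary [PerfectField k] : Etale (i ≫ D.fb) := by
  apply etale_of_cover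
  intro y
  obtain ⟨m, p, hp⟩ := D.exists_c_eq (i y)
  have := isReduced_mvQuot (k := k) (f := f) (H := H) m
  obtain ⟨c', hc'⟩ := exists_isPullback D i hr hd m
  have h1 : IsOpenImmersion c' := MorphismProperty.of_isPullback (P := @IsOpenImmersion) hc'.flip inferInstance
  refine ⟨_, c', h1, ?_, ?_⟩
  · obtain ⟨q, hq, -⟩ := Scheme.exists_preimage_of_isPullback hc' y p hp.symm
    exact ⟨q, hq⟩
  · rw [chart_comp D i hd m c' hc']
    have h2 := hfin m
    have h3 := isReduced_quot (k := k) (f := f) (H := H) m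
    exact etale_map k _ n

include hr hd hfin in
theorem isFinite_boundary [PerfectField k] : IsFinite (i ≫ D.fb) := by
  have h1 := etale_boundary D i hr hd hfin
  have h2 : LocallyQuasiFinite (i ≫ D.fb) := Desc.LQF.of_etale _
  exact IsFinite.of_isProper_of_locallyQuasiFinite _

include hr hd hfin in
theorem exists_section [IsAlgClosed k] [Nonempty Y] :
    ∃ σ : Spec (CommRingCat.of (MvPolynomial (Fin n) k)) ⟶ D.Z, σ ≫ D.fb = 𝟙 _ := by
  obtain ⟨y⟩ := ‹Nonempty Y›
  obtain ⟨m, p, hp⟩ := D.exists_c_eq (i y)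
  have := isReduced_mvQuot (k := k) (f := f) (H := H) m
  obtain ⟨c', hc'⟩ := exists_isPullback D i hr hd m
  obtain ⟨q, -, -⟩ := Scheme.exists_preimage_of_isPullback hc' y p hp.symm
  have h0 : Nontrivial (MvPolynomial (Fin n) (Ch f k m ⧸ bI k f H m)) := by
    have h1 : Nonempty (PrimeSpectrum (MvPolynomial (Fin n) (Ch f k m ⧸ bI k f H m))) := ⟨q⟩
    exact PrimeSpectrum.nonempty_iff_nontrivial.mp h1
  have h1 : Nontrivial (Ch f k m ⧸ bI k f H m) := (C : _ →+* MvPolynomial (Fin n) (Ch f k m ⧸ bI k f H m)).domain_nontrivial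
  have h2 := hfin m
  obtain ⟨I, hI⟩ := Ideal.exists_maximal (Ch f k m ⧸ bI k f H m)
  let F := (Ch f k m ⧸ bI k f H m) ⧸ I
  let _ : Field F := Ideal.Quotient.field I
  have h3 : Module.Finite k F := inferInstance
  have h4 : Function.Bijective (algebraMap k F) := IsAlgClosed.algebraMap_bijective_of_isIntegral
  let χ : (Ch f k m ⧸ bI k f H m) →ₐ[k] k :=
    ((AlgEquiv.ofBijective (Algebra.ofId k F) h4).symm : F →ₐ[k] k).comp (Ideal.Quotient.mkₐ k I)
  have h5 : (MvPolynomial.map (σ := Fin n) (χ : (Ch f k m ⧸ bI k f H m) →+* k)).comp (MvPolynomial.map (σ := Fin n)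
      (algebraMap k (Ch f k m ⧸ bI k f H m))) = RingHom.id _ := by
    refine RingHom.ext fun g => ?_
    rw [RingHom.comp_apply, MvPolynomial.map_map]
    have h6 : (χ : (Ch f k m ⧸ bI k f H m) →+* k).comp (algebraMap k (Ch f k m ⧸ bI k f H m)) = RingHom.id k := by
      refine RingHom.ext fun a => ?_
      exact χ.commutes a
    rw [h6, MvPolynomial.map_id]
    rfl
  refine ⟨Spec.map (CommRingCat.ofHom (MvPolynomial.map (σ := Fin n) (χ : (Ch f k m ⧸ bI k f H m) →+* k))) ≫ c' ≫ i, ?_⟩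
  rw [Category.assoc, Category.assoc, chart_comp D i hd m c' hc', ← Spec.map_comp, ← CommRingCat.ofHom_comp, h5]
  exact Spec.map_id _

end Groth.Agent.An.H892.FamBd2
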