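import Groth.Agent.An.H892.FamBd2
import Groth.Agent.An.H892.AbsThm

/-!
# The family is an elementary fibration near the origin
-/

set_option autoImplicit false
universe u

open CategoryTheory CategoryTheory.Limits AlgebraicGeometry MvPolynomial CohB1
open Groth.Agent.CohqB.ProjBC Groth.Agent.Fga.QD1Alg Groth.Agent.Fga.QD1Sch
open Groth.Agent.An.H892.FamRing Groth.Agent.An.H892.FamAlg Groth.Agent.An.H892.HomIdeal Groth.Agent.An.H892.Fam
  Groth.Agent.An.H892.BdAlg Groth.Agent.An.H892.FamBd Groth.Agent.An.H892.FamBd2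

namespace Groth.Agent.An.H892.FamMain

section zero

variable {B : Type u} [CommRing B] {n : ℕ} (h : Fin n → B) (u : B) (hu : u = 1)

/-- evaluation of the parameters on the chart where `u = 1` -/
noncomputable def ev0 : FamRing h u →+* B :=
  Ideal.Quotient.lift _ (eval₂Hom (RingHom.id B) h) (by
    intro a ha
    have h1 : Ideal.span (Set.range fun l => (C (h l) - X l * C u : MvPolynomial (Fin n) B)) ≤
        RingHom.ker (eval₂Hom (RingHom.id B) h) := by
      rw [Ideal.span_le]
      rintro _ ⟨l, rfl⟩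
      rw [SetLike.mem_coe, RingHom.mem_ker, map_sub, map_mul, eval₂Hom_C, eval₂Hom_C, eval₂Hom_X', hu, map_one, mul_one,
        RingHom.id_apply, sub_self]
    exact h1 ha)

theorem ev0_mk_C (b : B) : ev0 h u hu (Ideal.Quotient.mk _ (C b)) = b := eval₂Hom_C _ _ _

theorem ev0_mk_X (l : Fin n) : ev0 h u hu (Ideal.Quotient.mk _ (X l)) = h l := eval₂Hom_X' _ _ _

theorem ev0_bijective : Function.Bijective (ev0 h u hu) := by
  have h1 : Function.Surjective ((Ideal.Quotient.mk _).comp C : B →+* FamRing h u) := by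
    intro a
    obtain ⟨g, rfl⟩ := Ideal.Quotient.mk_surjective a
    induction g using MvPolynomial.induction_on with
    | C b => exact ⟨b, rfl⟩
    | add p q hp hq =>
      obtain ⟨x, hx⟩ := hp
      obtain ⟨y, hy⟩ := hq
      exact ⟨x + y, by rw [map_add, hx, hy, map_add]⟩
    | mul_X p l hp =>
      obtain ⟨x, hx⟩ := hp
      refine ⟨x * h l, ?_⟩
      have h2 : (Ideal.Quotient.mk _ (C (h l)) : FamRing h u) = Ideal.Quotient.mk _ (X l) := by
        have h3 := mk_rel h u l
        have h4 : (Ideal.Quotient.mk _ (C u) : FamRing h u) = 1 :=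
          (congrArg (fun b : B => (Ideal.Quotient.mk _ (C b) : FamRing h u)) hu).trans (by rw [map_one, map_one])
        rw [h4, mul_one] at h3
        exact h3
      rw [map_mul, map_mul, hx, ← h2]
      rfl
  constructor
  · intro a b hab
    obtain ⟨a, rfl⟩ := h1 a
    obtain ⟨b, rfl⟩ := h1 b
    have h2 : a = b := by
      have := hab
      simp only [RingHom.comp_apply] at this
      rwa [ev0_mk_C, ev0_mk_C] at this
    rw [h2]
  · intro b
    exact ⟨_, ev0_mk_C h u hu b⟩

theorem ev0_comp_famHom (k : Type u) [Field k] [Algebra k B] :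
    (ev0 h u hu).comp (famHom k h u) = (aeval h : MvPolynomial (Fin n) k →ₐ[k] B).toRingHom := by
  apply MvPolynomial.ringHom_ext
  · intro a
    rw [RingHom.comp_apply, famHom_C, ev0_mk_C]
    exact ((aeval h : MvPolynomial (Fin n) k →ₐ[k] B).commutes a).symm
  · intro l
    rw [RingHom.comp_apply, famHom_X, ev0_mk_X]
    exact (aeval_X h l).symm

end zero

/-- the origin of the parameter space -/
noncomputable def origin (k : Type u) [Field k] (n : ℕ) : Spec (CommRingCat.of (MvPolynomial (Fin n) k)) :=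
  Spec.map (CommRingCat.ofHom (eval (0 : Fin n → k))) (IsLocalRing.closedPoint k)

theorem mem_origin (k : Type u) [Field k] (n : ℕ) (g : MvPolynomial (Fin n) k) :
    g ∈ (origin k n).asIdeal ↔ eval 0 g = 0 := by
  have h1 : (origin k n).asIdeal = (IsLocalRing.closedPoint k).asIdeal.comap (eval (0 : Fin n → k)) := rfl
  rw [h1, Ideal.mem_comap]
  have h2 : (IsLocalRing.closedPoint k).asIdeal = ⊥ := IsLocalRing.maximalIdeal_eq_bot
  rw [h2, Ideal.mem_bot]

theorem smoothOfRelativeDimension_SpecMap {R S : Type u} [CommRing R] [CommRing S] (φ : R →+* S) (n : ℕ)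
    (h : φ.IsStandardSmoothOfRelativeDimension n) : SmoothOfRelativeDimension n (Spec.map (CommRingCat.ofHom φ)) := by
  rw [HasRingHomProperty.Spec_iff (P := @SmoothOfRelativeDimension n)]
  exact RingHom.locally_of (RingHom.isStandardSmoothOfRelativeDimension_respectsIso) _ h

variable {k K : Type u} [Field k] [Field K] [Algebra k K] {M n : ℕ} {f : Fin (M + 1) → K}
  {H : Fin n → P M k} {d : ℕ}

/-- MAIN STATEMENT of the family construction. -/
theorem main [IsAlgClosed k] {hf : ∀ i, f i ≠ 0} (D : FamData k f hf H d) (hd : d ≠ 0)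
    (hfin : ∀ m, Module.Finite k (Ch f k m ⧸ bI k f H m))
    (x : Ch f k 0 →ₐ[k] k) (hx : ∀ l, x (aeval (chx f k 0) (H l)) = 0)
    (hsm : ∀ (m : Fin (M + 1)) (p : Ideal (FR k f H d m)) [p.IsPrime],
      (∀ l, (Ideal.Quotient.mk _ (X l) : FR k f H d m) ∈ p) → ∃ g ∉ p,
        ((algebraMap (FR k f H d m) (Localization.Away g)).comp
          (famHom k (fun l => aeval (chx f k m) (H l)) (chx f k m 0 ^ d))).IsStandardSmoothOfRelativeDimension 1) :
    ∃ V₁ : (Spec (CommRingCat.of (MvPolynomial (Fin n) k))).Opens, origin k n ∈ V₁ ∧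
      ∀ V : (Spec (CommRingCat.of (MvPolynomial (Fin n) k))).Opens, V ≤ V₁ →
        (V : Set (Spec (CommRingCat.of (MvPolynomial (Fin n) k)))).Nonempty →
        An.IsElementaryFibration ((Spec.map (CommRingCat.ofHom
          (aeval (fun l => aeval (chx f k 0) (H l)) : MvPolynomial (Fin n) k →ₐ[k] Ch f k 0).toRingHom)) ∣_ V) := by
  let h0 : Fin n → Ch f k 0 := fun l => aeval (chx f k 0) (H l)
  have hu : chx f k 0 0 ^ d = 1 := by rw [chx_self f 0 (hf 0), one_pow]
  let e : Spec (CommRingCat.of (Ch f k 0)) ⟶ Spec (CommRingCat.of (FR k f H d 0)) :=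
    Spec.map (CommRingCat.ofHom (ev0 h0 (chx f k 0 0 ^ d) hu))
  have he : IsIso e := by
    have h1 : IsIso (CommRingCat.ofHom (ev0 h0 (chx f k 0 0 ^ d) hu)) := by
      rw [ConcreteCategory.isIso_iff_bijective]
      exact ev0_bijective h0 (chx f k 0 0 ^ d) hu
    infer_instance
  let j : Spec (CommRingCat.of (Ch f k 0)) ⟶ D.Z := e ≫ D.c 0
  have hj : j ≫ D.fb = Spec.map (CommRingCat.ofHom
      (aeval (fun l => aeval (chx f k 0) (H l)) : MvPolynomial (Fin n) k →ₐ[k] Ch f k 0).toRingHom) := by
    simp only [j, e]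
    rw [Category.assoc, D.c_fb, ← Spec.map_comp, ← CommRingCat.ofHom_comp, ev0_comp_famHom]
  have hrj : Set.range j = Set.range (D.c 0) := by
    have h1 : Function.Surjective e := e.homeomorph.surjective
    ext z
    constructor
    · rintro ⟨a, rfl⟩
      exact ⟨e a, (Scheme.Hom.comp_apply _ _ _).symm⟩
    · rintro ⟨b, rfl⟩
      obtain ⟨a, rfl⟩ := h1 b
      exact ⟨a, Scheme.Hom.comp_apply _ _ _⟩
  have hproj : An.IsStronglyProjective D.fb := by
    refine ⟨M, D.ι ≫ (projSpaceOverIso M _).inv, inferInstance, ?_⟩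
    rw [Category.assoc, projSpaceOverIso_inv_toBase]
    rfl
  obtain ⟨Y, i, hi, hYr, hri⟩ := exists_boundary D
  have hfin' := isFinite_boundary D i hri hd hfin
  have het' := etale_boundary D i hri hd hfin
  have hirr : IrreducibleSpace (Spec (CommRingCat.of (Ch f k 0))) := inferInstance
  have hirrS : IrreducibleSpace (Spec (CommRingCat.of (MvPolynomial (Fin n) k))) := inferInstance
  have hs₀ : ∃ a : Spec (CommRingCat.of (Ch f k 0)), D.fb (j a) = origin k n := by
    refine ⟨Spec.map (CommRingCat.ofHom x.toRingHom) (IsLocalRing.closedPoint k), ?_⟩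
    rw [← Scheme.Hom.comp_apply, hj, ← Scheme.Hom.comp_apply, ← Spec.map_comp, ← CommRingCat.ofHom_comp, origin]
    have h1 : x.toRingHom.comp (aeval (fun l => aeval (chx f k 0) (H l)) : MvPolynomial (Fin n) k →ₐ[k] Ch f k 0).toRingHom
        = eval (0 : Fin n → k) := by
      apply MvPolynomial.ringHom_ext
      · intro a
        simp
      · intro l
        have h2 := hx l
        simpa using h2
    rw [h1]
  have hsm' : ∀ z : D.Z, D.fb z = origin k n → ∃ W : D.Z.Opens, z ∈ W ∧ SmoothOfRelativeDimension 1 (W.ι ≫ D.fb) := by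
    intro z hz
    obtain ⟨m, p, rfl⟩ := D.exists_c_eq z
    rw [← Scheme.Hom.comp_apply, D.c_fb] at hz
    have hX : ∀ l, (Ideal.Quotient.mk _ (X l) : FR k f H d m) ∈ p.asIdeal := by
      intro l
      have h1 : (X l : MvPolynomial (Fin n) k) ∈ (origin k n).asIdeal := by
        rw [mem_origin]; simp
      rw [← hz] at h1
      have h2 : famHom k (fun l => aeval (chx f k m) (H l)) (chx f k m 0 ^ d) (X l) ∈ p.asIdeal := h1
      rwa [famHom_X] at h2
    obtain ⟨g, hg, hgs⟩ := hsm m p.asIdeal hX
    let o : Spec (CommRingCat.of (Localization.Away g)) ⟶ D.Z :=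
      Spec.map (CommRingCat.ofHom (algebraMap (FR k f H d m) (Localization.Away g))) ≫ D.c m
    have ho1 : IsOpenImmersion (Spec.map (CommRingCat.ofHom (algebraMap (FR k f H d m) (Localization.Away g)))) :=
      inferInstance
    have ho : IsOpenImmersion o := inferInstance
    have hos : SmoothOfRelativeDimension 1 (o ≫ D.fb) := by
      have h3 : o ≫ D.fb = Spec.map (CommRingCat.ofHom ((algebraMap (FR k f H d m) (Localization.Away g)).comp
          (famHom k (fun l => aeval (chx f k m) (H l)) (chx f k m 0 ^ d)))) := by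
        simp only [o]
        rw [Category.assoc, D.c_fb, ← Spec.map_comp, ← CommRingCat.ofHom_comp]
      rw [h3]
      exact smoothOfRelativeDimension_SpecMap _ 1 hgs
    refine ⟨o.opensRange, ?_, ?_⟩
    · have h4 : p ∈ Set.range (PrimeSpectrum.comap (algebraMap (FR k f H d m) (Localization.Away g))) := by
        rw [PrimeSpectrum.localization_away_comap_range (Localization.Away g) g]
        exact hg
      obtain ⟨q, hq⟩ := h4
      refine ⟨q, ?_⟩
      change o q = _
      rw [Scheme.Hom.comp_apply]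
      exact congrArg (D.c m) hq
    · have h1 : o.opensRange.ι ≫ D.fb = o.isoOpensRange.inv ≫ o ≫ D.fb := by
        rw [← Category.assoc, Scheme.Hom.isoOpensRange_inv_comp]
      rw [h1]
      exact (MorphismProperty.cancel_left_of_respectsIso (P := @SmoothOfRelativeDimension 1) _ _).2 hos
  obtain ⟨V₁, hV₁, hV⟩ := AbsThm.main j D.fb hproj i (by rw [hrj, hri, compl_compl])
    (fun _ => exists_section D i hri hd hfin) (origin k n) hs₀ hsm'
  refine ⟨V₁, hV₁, fun V hVV hVne => ?_⟩
  have h1 := hV V hVV hVne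
  rw [hj] at h1
  exact h1

end Groth.Agent.An.H892.FamMain
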