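import Groth.Agent.An.H892.FamMain
import Mathlib.RingTheory.Smooth.StandardSmoothOfFree
import Mathlib.RingTheory.LocalRing.ResidueField.Ideal

/-!
# The family statement (F) of S4220 from the Bertini data
-/

set_option autoImplicit false
universe u

open CategoryTheory CategoryTheory.Limits AlgebraicGeometry MvPolynomial CohB1 TensorProduct
open Groth.Agent.CohqB.ProjBC Groth.Agent.Fga.QD1Alg Groth.Agent.Fga.QD1Sch
open Groth.Agent.An.H892.FamRing Groth.Agent.An.H892.FamAlg Groth.Agent.An.H892.HomIdeal Groth.Agent.An.H892.Fam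
  Groth.Agent.An.H892.BdAlg Groth.Agent.An.H892.FamBd Groth.Agent.An.H892.FamBd2

namespace Groth.Agent.An.H892.Final

/-- the relative Jacobian criterion -/
def RelJacHyp (k : Type u) [Field k] : Prop :=
  ∀ {B : Type u} [CommRing B] [Algebra k B] [Algebra.FiniteType k B] {n : ℕ}
    (h : Fin n → B) (u : B) (q : Ideal B) [q.IsPrime]
    (_ : Algebra.IsSmoothAt k q)
    (_ : LinearIndependent q.ResidueField
      (fun l => (1 : q.ResidueField) ⊗ₜ[B] KaehlerDifferential.D k B (h l)))
    (_ : Module.finrank q.ResidueField (q.ResidueField ⊗[B] Ω[B⁄k]) = n + 1)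
    (P : Ideal (FamRing h u)) [P.IsPrime] (_ : ∀ l, (Ideal.Quotient.mk _ (X l) : FamRing h u) ∈ P)
    (_ : P.comap ((Ideal.Quotient.mk _).comp C) = q),
    ∃ g ∉ P, ((algebraMap (FamRing h u) (Localization.Away g)).comp (famHom k h u)).IsStandardSmoothOfRelativeDimension 1

variable {k K : Type u} [Field k] [Field K] [Algebra k K] {M n : ℕ}

theorem finiteType_Ch (f : Fin (M + 1) → K) (i : Fin (M + 1)) : Algebra.FiniteType k (Ch f k i) := by
  rw [← Subalgebra.fg_iff_finiteType]
  exact Subalgebra.fg_def.2 ⟨_, Set.finite_range _, rfl⟩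

/-- The statement (F). -/
theorem main [IsAlgClosed k] (RJ : RelJacHyp k) (f : Fin (M + 1) → K) (hf : ∀ i, f i ≠ 0)
    (H : Fin n → MvPolynomial (Fin (M + 1)) k) {d : ℕ} (hd : d ≠ 0) (hH : ∀ l, (H l).IsHomogeneous d)
    (hG1 : ∀ (i : Fin (M + 1)) (q : Ideal (Ch f k i)) [q.IsPrime], (∀ l, aeval (chx f k i) (H l) ∈ q) →
        Algebra.IsSmoothAt k q ∧
        LinearIndependent q.ResidueField (fun l => (1 : q.ResidueField) ⊗ₜ[Ch f k i]
          KaehlerDifferential.D k (Ch f k i) (aeval (chx f k i) (H l))) ∧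
        Module.finrank q.ResidueField (q.ResidueField ⊗[Ch f k i] Ω[Ch f k i⁄k]) = n + 1)
    (hG2 : ∀ i, Module.Finite k (Ch f k i ⧸ Ideal.span (insert (chx f k i 0)
        (Set.range fun l => aeval (chx f k i) (H l)))))
    (x : Ch f k 0 →ₐ[k] k) (hx : ∀ l, x (aeval (chx f k 0) (H l)) = 0) :
    ∃ V₁ : (Spec (CommRingCat.of (MvPolynomial (Fin n) k))).Opens, FamMain.origin k n ∈ V₁ ∧
      ∀ V : (Spec (CommRingCat.of (MvPolynomial (Fin n) k))).Opens, V ≤ V₁ →
        (V : Set (Spec (CommRingCat.of (MvPolynomial (Fin n) k)))).Nonempty →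
        An.IsElementaryFibration ((Spec.map (CommRingCat.ofHom
          (aeval (fun l => aeval (chx f k 0) (H l)) : MvPolynomial (Fin n) k →ₐ[k] Ch f k 0).toRingHom)) ∣_ V) := by
  obtain ⟨D⟩ := exists_famData (k := k) (f := f) (H := H) (d := d) hf hH
  refine FamMain.main D hd (fun m => ?_) x hx ?_
  · have h1 := hG2 m
    have h2 : Ideal.span (insert (chx f k m 0) (Set.range fun l => aeval (chx f k m) (H l))) ≤ bI k f H m :=
      Ideal.le_radical
    exact Module.Finite.of_surjective (Ideal.Quotient.factorₐ k h2).toLinearMap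
      (Ideal.Quotient.factor_surjective h2)
  · intro m P hP hX
    have hft := finiteType_Ch (k := k) f m
    let q : Ideal (Ch f k m) := P.comap ((Ideal.Quotient.mk _).comp C)
    have hq : q.IsPrime := Ideal.comap_isPrime _ _
    have hlq : ∀ l, aeval (chx f k m) (H l) ∈ q := by
      intro l
      rw [Ideal.mem_comap, RingHom.comp_apply, mk_rel]
      exact P.mul_mem_right _ (hX l)
    obtain ⟨h1, h2, h3⟩ := hG1 m q hlq
    exact RJ _ _ q h1 h2 h3 P hX rfl

end Groth.Agent.An.H892.Final
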